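import Groth.Agent.Lib.HopfFinQuot.Basic
import Groth.Prelude.Def_SGA3
import Mathlib.RingTheory.Flat.FaithfullyFlat.Algebra

/-!
The subgroup is the kernel of the quotient by it.
-/

universe u

set_option linter.style.haveILetI false
set_option maxSynthPendingDepth 3

open TensorProduct

namespace GrothLib.HopfFinQuot

variable (R : Type u) [CommRing R] {A : Type u} [CommRing A] [HopfAlgebra R A] (I : Ideal A) [I.IsHopfIdeal R]
  [Module.Finite R (A ⧸ I)] [Module.Projective R (A ⧸ I)]

theorem trans_eq_conv : WithConv.toConv (trans R I) = WithConv.toConv Algebra.TensorProduct.includeLeft *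
    WithConv.toConv (Algebra.TensorProduct.includeRight.comp (Ideal.Quotient.mkₐ R I)) := by
  refine WithConv.ofConv_injective (AlgHom.ext fun a => ?_)
  rw [AlgHom.convMul_apply]
  simp only [WithConv.ofConv_toConv, trans, AlgHom.comp_apply, Bialgebra.comulAlgHom_apply]
  induction Coalgebra.comul (R := R) a using TensorProduct.induction_on with
  | zero => simp
  | add p q hp hq => simp only [map_add, hp, hq]
  | tmul p q => simp

theorem faithfullyFlat_invariants : Module.FaithfullyFlat (Inv R I) A := by
  haveI := finite_inv R I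
  haveI := projective_inv R I
  haveI : Algebra.IsIntegral (Inv R I) A := Algebra.IsIntegral.of_finite (Inv R I) A
  refine Module.FaithfullyFlat.of_comap_surjective fun p => ?_
  obtain ⟨P, -, hP, hPp⟩ := Ideal.exists_ideal_over_prime_of_isIntegral (R := Inv R I) (S := A) p.asIdeal (⊥ : Ideal A)
    (by
      intro y hy
      rw [Ideal.mem_comap, Ideal.mem_bot] at hy
      rw [show y = 0 from Subtype.ext hy]
      exact zero_mem _)
  exact ⟨⟨P, hP⟩, PrimeSpectrum.ext hPp⟩

/-- The subgroup is the kernel of the quotient map. -/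
theorem augIdealSpan_inv : SGA3.augIdealSpan R A (Inv R I) = I := by
  refine le_antisymm (Ideal.span_le.2 ?_) fun a ha => ?_
  · rintro b ⟨hb, hb0⟩
    let l : A ⊗[R] (A ⧸ I) →ₐ[R] A ⧸ I := Algebra.TensorProduct.lift
      ((Algebra.ofId R (A ⧸ I)).comp (Bialgebra.counitAlgHom R A)) (AlgHom.id R _) (fun _ _ => Commute.all _ _)
    have h1 : WithConv.toConv (l.comp (trans R I)) = WithConv.toConv (Ideal.Quotient.mkₐ R I) := by
      rw [show trans R I = (WithConv.toConv (trans R I)).ofConv from rfl, trans_eq_conv,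
        GrothLib.Hopf.comp_convMul, WithConv.ofConv_toConv, WithConv.ofConv_toConv,
        show WithConv.toConv (l.comp Algebra.TensorProduct.includeLeft) = (1 : WithConv (A →ₐ[R] A ⧸ I)) from
          WithConv.ofConv_injective (AlgHom.ext fun c => by simp [l, AlgHom.convOne_def]), _root_.one_mul]
      exact WithConv.ofConv_injective (AlgHom.ext fun c => by simp [l])
    have h := DFunLike.congr_fun (congrArg WithConv.ofConv h1) b
    simp only [WithConv.ofConv_toConv, AlgHom.comp_apply, show trans R I b = b ⊗ₜ 1 from hb] at h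
    refine Ideal.Quotient.eq_zero_iff_mem.1 (h.symm.trans ?_)
    simp [l, hb0]
  · let J := SGA3.augIdealSpan R A (Inv R I)
    have hJ : ∀ b : Inv R I, Ideal.Quotient.mk J (b : A) = algebraMap R (A ⧸ J) (Coalgebra.counit (R := R) (b : A)) := by
      intro b
      rw [← (Ideal.Quotient.mkₐ R J).commutes, Ideal.Quotient.mkₐ_eq_mk, Ideal.Quotient.eq]
      exact Ideal.subset_span ⟨(Inv R I).sub_mem b.2 ((Inv R I).algebraMap_mem _), by simp⟩
    let o : A →ₐ[R] A ⧸ J := (Algebra.ofId R (A ⧸ J)).comp (Bialgebra.counitAlgHom R A)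
    let x : A →ₐ[R] A ⧸ J := Ideal.Quotient.mkₐ R J
    let ψ : A ⊗[Inv R I] A →+ A ⧸ J := TensorProduct.liftAddHom
      { toFun := fun u => { toFun := fun v => o u * x v, map_zero' := by simp, map_add' := fun v w => by simp [mul_add] }
        map_zero' := AddMonoidHom.ext fun v => by simp
        map_add' := fun u u' => AddMonoidHom.ext fun v => by simp [add_mul] }
      (fun s u v => by
        change o ((s : A) * u) * x v = o u * x ((s : A) * v)
        rw [map_mul, map_mul, show x (s : A) = o (s : A) from hJ s]; ring)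
    obtain ⟨-, Φ, hΦ⟩ := torsor R I
    let η : A ⊗[R] (A ⧸ I) →+ A ⧸ J := ψ.comp (Φ.symm : A ⊗[R] (A ⧸ I) →+ A ⊗[Inv R I] A)
    have hη : ∀ (u v : A), η ((u ⊗ₜ[R] (1 : A ⧸ I)) * trans R I v) = o u * x v := fun u v => by
      change ψ (Φ.symm _) = _
      rw [← hΦ, Φ.symm_apply_apply]
      rfl
    have hη1 : ∀ z : A ⊗[R] (A ⧸ I), ∀ u : A, η ((u ⊗ₜ[R] (1 : A ⧸ I)) * z) = o u * η z := by
      intro z u
      obtain ⟨w, rfl⟩ := Φ.surjective z
      induction w using TensorProduct.induction_on with
      | zero => simp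
      | add w w' hw hw' => rw [map_add, mul_add, map_add, map_add, hw, hw', mul_add]
      | tmul p q =>
        rw [hΦ, ← mul_assoc, Algebra.TensorProduct.tmul_mul_tmul, _root_.mul_one, hη, hη, map_mul, mul_assoc]
    have h1 : ∀ z : A ⊗[R] A, η (Algebra.TensorProduct.map (AlgHom.id R A) (Ideal.Quotient.mkₐ R I) z) =
        η ((1 : A) ⊗ₜ Ideal.Quotient.mk I (TensorProduct.lid R A (LinearMap.rTensor A Coalgebra.counit z))) := by
      intro z
      induction z using TensorProduct.induction_on with
      | zero => simp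
      | add z z' hz hz' => simp only [map_add, TensorProduct.tmul_add, hz, hz']
      | tmul p q =>
        simp only [Algebra.TensorProduct.map_tmul, AlgHom.id_apply, Ideal.Quotient.mkₐ_eq_mk,
          LinearMap.rTensor_tmul, TensorProduct.lid_tmul]
        rw [show p ⊗ₜ[R] Ideal.Quotient.mk I q = (p ⊗ₜ[R] (1 : A ⧸ I)) * ((1 : A) ⊗ₜ Ideal.Quotient.mk I q) by simp,
          hη1, show (1 : A) ⊗ₜ[R] Ideal.Quotient.mk I (Coalgebra.counit (R := R) p • q) =
            ((algebraMap R A (Coalgebra.counit (R := R) p)) ⊗ₜ[R] (1 : A ⧸ I)) * ((1 : A) ⊗ₜ Ideal.Quotient.mk I q) by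
              rw [Algebra.TensorProduct.tmul_mul_tmul, _root_.mul_one, _root_.one_mul, Algebra.algebraMap_eq_smul_one,
                TensorProduct.smul_tmul]
              rfl, hη1]
        congr 1
        simp [o]
    have h3 := hη 1 a
    rw [← Algebra.TensorProduct.one_def, _root_.one_mul, map_one, _root_.one_mul, trans, AlgHom.comp_apply, h1,
      Bialgebra.comulAlgHom_apply, Coalgebra.rTensor_counit_comul, TensorProduct.lid_tmul, one_smul,
      Ideal.Quotient.eq_zero_iff_mem.2 ha, TensorProduct.tmul_zero, map_zero] at h3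
    exact Ideal.Quotient.eq_zero_iff_mem.1 h3.symm

end GrothLib.HopfFinQuot
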