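import Groth.Agent.Lib.HopfFinQuot.Groupoid
import Groth.Agent.Lib.GrpdQuot.Free
import Groth.Prelude.Def_GLin
import Groth.Agent.Lib.Hopf.Translate
import Mathlib.RingTheory.HopfAlgebra.Quotient
import Mathlib.RingTheory.Spectrum.Prime.FreeLocus
import Mathlib.RingTheory.LocalRing.Module
import Mathlib.RingTheory.IntegralClosure.IsIntegral.Basic

/-!
A finite Hopf algebra is finite projective over the invariants of a finite flat subgroup.
-/

universe u v

set_option linter.style.haveILetI false

open TensorProduct

namespace GrothLib.HopfFinQuot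

variable (R : Type u) [CommRing R] {A : Type v} [CommRing A] [HopfAlgebra R A] (I : Ideal A) [I.IsHopfIdeal R]

/-- Right translation by the subgroup. -/
noncomputable def trans : A →ₐ[R] A ⊗[R] (A ⧸ I) :=
  (Algebra.TensorProduct.map (AlgHom.id R A) (Ideal.Quotient.mkₐ R I)).comp (Bialgebra.comulAlgHom R A)

/-- The invariant functions. -/
noncomputable abbrev Inv : Subalgebra R A :=
  AlgHom.equalizer (trans R I) (Algebra.TensorProduct.includeLeft : A →ₐ[R] A ⊗[R] (A ⧸ I))

/-- The comodule structure of right translation. -/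
@[reducible] noncomputable def comod : HopfRep.Comod R (A ⧸ I) A where
  coact := (trans R I).toLinearMap
  coassoc := by
    refine LinearMap.ext fun a => ?_
    let π : A →ₐ[R] A ⧸ I := Ideal.Quotient.mkₐ R I
    have hπ : ∀ b : A, Coalgebra.comul (R := R) (π b) =
        TensorProduct.map π.toLinearMap π.toLinearMap (Coalgebra.comul (R := R) b) := fun b =>
      (CoalgHomClass.map_comp_comul_apply (Bialgebra.Quotient.mkBialgHom I) b).symm
    have h0 := congrArg (TensorProduct.map LinearMap.id (TensorProduct.map π.toLinearMap π.toLinearMap))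
      (Coalgebra.coassoc_apply (R := R) a)
    simp only [LinearMap.comp_apply, LinearEquiv.coe_coe, trans]
    have h1 : ∀ z : A ⊗[R] A, TensorProduct.assoc R A (A ⧸ I) (A ⧸ I)
        (LinearMap.rTensor (A ⧸ I) (trans R I).toLinearMap (Algebra.TensorProduct.map (AlgHom.id R A) π z)) =
        TensorProduct.map LinearMap.id (TensorProduct.map π.toLinearMap π.toLinearMap)
          (TensorProduct.assoc R A A A (LinearMap.rTensor A Coalgebra.comul z)) := fun z => by
      induction z using TensorProduct.induction_on with
      | zero => simp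
      | add p q hp hq => simp only [map_add, hp, hq]
      | tmul p q =>
        simp only [Algebra.TensorProduct.map_tmul, LinearMap.rTensor_tmul, AlgHom.id_apply, AlgHom.toLinearMap_apply,
          trans, AlgHom.comp_apply, Bialgebra.comulAlgHom_apply]
        induction Coalgebra.comul (R := R) p using TensorProduct.induction_on with
        | zero => simp
        | add r s hr hs => simp only [map_add, TensorProduct.add_tmul, hr, hs]
        | tmul r s => simp [π]
    have h2 : ∀ z : A ⊗[R] A, LinearMap.lTensor A Coalgebra.comul (Algebra.TensorProduct.map (AlgHom.id R A) π z) =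
        TensorProduct.map LinearMap.id (TensorProduct.map π.toLinearMap π.toLinearMap)
          (LinearMap.lTensor A Coalgebra.comul z) := fun z => by
      induction z using TensorProduct.induction_on with
      | zero => simp
      | add p q hp hq => simp only [map_add, hp, hq]
      | tmul p q => simp [hπ]
    exact (h1 _).trans (h0.trans (h2 _).symm)
  counit_comp := by
    refine LinearMap.ext fun a => ?_
    have h0 := Coalgebra.lTensor_counit_comul (R := R) a
    simp only [LinearMap.comp_apply, LinearMap.flip_apply, TensorProduct.mk_apply]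
    rw [← h0]
    change LinearMap.lTensor A Coalgebra.counit (trans R I a) = _
    simp only [trans, AlgHom.comp_apply, Bialgebra.comulAlgHom_apply]
    generalize Coalgebra.comul (R := R) a = z
    induction z using TensorProduct.induction_on with
    | zero => simp
    | add p q hp hq => simp only [map_add, hp, hq]
    | tmul p q =>
      have : Coalgebra.counit (R := R) (Ideal.Quotient.mkₐ R I q) = Coalgebra.counit (R := R) q :=
        CoalgHomClass.counit_comp_apply (Bialgebra.Quotient.mkBialgHom I) q
      simp [this]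

theorem isCoactAlg : @GLin.IsCoactAlg R _ (A ⧸ I) _ _ A _ _ (comod R I) :=
  @GLin.IsCoactAlg.mk R _ (A ⧸ I) _ _ A _ _ (comod R I) (map_one (trans R I)) (map_mul (trans R I))

/-- The groupoid of right translation. -/
noncomputable def G : GrpdQuot.GData A (A ⊗[R] (A ⧸ I)) ((A ⊗[R] (A ⧸ I)) ⊗[R] (A ⧸ I)) :=
  letI := comod R I
  haveI := isCoactAlg R I
  gdata R (A ⧸ I) A

theorem G_s (a : A) : (G R I).s a = a ⊗ₜ[R] (1 : A ⧸ I) := rfl

theorem G_t (a : A) : (G R I).t a = trans R I a := rfl

theorem exists_sum_eq (y : A ⊗[R] (A ⧸ I)) :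
    y ∈ AddSubgroup.closure {z | ∃ a a' : A, (a ⊗ₜ[R] (1 : A ⧸ I)) * trans R I a' = z} := by
  let m : A ⊗[R] A →ₐ[R] A ⊗[R] (A ⧸ I) := Algebra.TensorProduct.map (AlgHom.id R A) (Ideal.Quotient.mkₐ R I)
  obtain ⟨z, rfl⟩ : ∃ z, m z = y := TensorProduct.map_surjective (fun x => ⟨x, rfl⟩) Ideal.Quotient.mk_surjective y
  -- the Galois map is surjective
  have hgal : z ∈ AddSubgroup.closure {w | ∃ a a' : A, (a ⊗ₜ[R] (1 : A)) * Coalgebra.comul (R := R) a' = w} := by
    induction z using TensorProduct.induction_on with
    | zero => exact zero_mem _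
    | add p q hp hq => exact add_mem hp hq
    | tmul p q =>
      let L : A →ₐ[R] A ⊗[R] A := Algebra.TensorProduct.includeLeft
      let Q : A →ₐ[R] A ⊗[R] A := Algebra.TensorProduct.includeRight
      have hΔ : WithConv.toConv (Bialgebra.comulAlgHom R A) = WithConv.toConv L * WithConv.toConv Q := by
        refine WithConv.ofConv_injective (AlgHom.ext fun b => ?_)
        rw [AlgHom.convMul_apply]
        simp only [WithConv.ofConv_toConv, Bialgebra.comulAlgHom_apply]
        induction Coalgebra.comul (R := R) b using TensorProduct.induction_on with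
        | zero => simp
        | add u v hu hv => simp only [map_add, ← hu, ← hv]
        | tmul u v => simp [L, Q]
      have key : GrothLib.Hopf.pinv (WithConv.toConv L) * WithConv.toConv (Bialgebra.comulAlgHom R A) =
          WithConv.toConv Q := by
        rw [hΔ, ← _root_.mul_assoc, GrothLib.Hopf.pinv_mul, _root_.one_mul]
      have h := DFunLike.congr_fun (congrArg WithConv.ofConv key) q
      rw [AlgHom.convMul_apply] at h
      simp only [WithConv.ofConv_toConv, GrothLib.Hopf.pinv] at h
      rw [show p ⊗ₜ[R] q = (p ⊗ₜ[R] (1 : A)) * Q q by simp [Q], ← h]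
      induction Coalgebra.comul (R := R) q using TensorProduct.induction_on with
      | zero => simp
      | add u v hu hv => simp only [map_add, mul_add]; exact add_mem hu hv
      | tmul u v =>
        refine AddSubgroup.subset_closure ⟨p * HopfAlgebra.antipodeAlgHom R A u, v, ?_⟩
        simp [L, ← mul_assoc]
  induction hgal using AddSubgroup.closure_induction with
  | mem w hw =>
    obtain ⟨a, a', rfl⟩ := hw
    refine AddSubgroup.subset_closure ⟨a, a', ?_⟩
    rw [map_mul]
    simp [m, trans]
  | zero => rw [map_zero]; exact zero_mem _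
  | add p q _ _ hp hq => rw [map_add]; exact add_mem hp hq
  | neg p _ hp => rw [map_neg]; exact neg_mem hp

theorem finite_src [Module.Finite R (A ⧸ I)] : @Module.Finite A (A ⊗[R] (A ⧸ I)) _ _ ((G R I).s).toAlgebra.toModule := by
  rw [show ((G R I).s).toAlgebra = (inferInstance : Algebra A (A ⊗[R] (A ⧸ I))) from Algebra.algebra_ext _ _ fun _ => rfl]
  exact Module.Finite.base_change R A (A ⧸ I)

theorem projective_src [Module.Projective R (A ⧸ I)] :
    @Module.Projective A _ (A ⊗[R] (A ⧸ I)) _ ((G R I).s).toAlgebra.toModule := by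
  rw [show ((G R I).s).toAlgebra = (inferInstance : Algebra A (A ⊗[R] (A ⧸ I))) from Algebra.algebra_ext _ _ fun _ => rfl]
  exact inferInstanceAs (Module.Projective A (A ⊗[R] (A ⧸ I)))

variable [Module.Finite R (A ⧸ I)] [Module.Projective R (A ⧸ I)]

/-- `A` is finite projective over the invariants and is a torsor over them. -/
theorem torsor : (Module.Finite (Inv R I) A ∧ Module.Projective (Inv R I) A) ∧
    ∃ Φ : A ⊗[Inv R I] A ≃ₗ[A] A ⊗[R] (A ⧸ I), ∀ a a', Φ (a ⊗ₜ a') = (a ⊗ₜ[R] 1) * trans R I a' := by
  obtain ⟨⟨hf, hp⟩, hbij⟩ := @GrpdQuot.GData.finite_projective_and_bijective _ _ _ _ _ _ (G R I)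
    (finite_src R I) (projective_src R I) (exists_sum_eq R I)
  let e : (G R I).inv ≃+* Inv R I :=
    { toFun := fun a => ⟨a.1, a.2.symm⟩, invFun := fun a => ⟨a.1, a.2.symm⟩, left_inv := fun _ => rfl,
      right_inv := fun _ => rfl, map_mul' := fun _ _ => rfl, map_add' := fun _ _ => rfl }
  letI := RingHomInvPair.of_ringEquiv e
  letI := RingHomInvPair.symm (e : (G R I).inv →+* Inv R I) (e.symm : Inv R I →+* (G R I).inv)
  let f : A ≃ₛₗ[(e : (G R I).inv →+* Inv R I)] A :=
    { AddEquiv.refl A with map_smul' := fun r a => rfl }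
  haveI := hf
  haveI := hp
  refine ⟨⟨Module.Finite.of_surjective f.toLinearMap f.surjective, Module.Projective.of_equiv f⟩, ?_⟩
  -- the comparison map
  let tB : A →ₗ[Inv R I] A ⊗[R] (A ⧸ I) :=
    { toFun := trans R I, map_add' := map_add _
      map_smul' := fun b a => by
        change trans R I ((b : A) * a) = (b : A) • trans R I a
        rw [map_mul, show trans R I (b : A) = Algebra.TensorProduct.includeLeft (b : A) from b.2]
        induction trans R I a using TensorProduct.induction_on with
        | zero => simp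
        | add p q hp hq => rw [mul_add, smul_add, hp, hq]
        | tmul p q => simp [TensorProduct.smul_tmul'] }
  let F : A ⊗[Inv R I] A →ₗ[A] A ⊗[R] (A ⧸ I) := LinearMap.liftBaseChange A tB
  have hF : ∀ a a', F (a ⊗ₜ a') = (a ⊗ₜ[R] 1) * trans R I a' := fun a a' => by
    rw [show F (a ⊗ₜ a') = a • trans R I a' from LinearMap.liftBaseChange_tmul _ _ _ _]
    induction trans R I a' using TensorProduct.induction_on with
    | zero => simp
    | add p q hp hq => rw [mul_add, smul_add, hp, hq]
    | tmul p q => simp [TensorProduct.smul_tmul']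
  let c : A ⊗[(G R I).inv] A →+ A ⊗[Inv R I] A := TensorProduct.liftAddHom
    { toFun := fun a => { toFun := fun a' => a' ⊗ₜ a, map_zero' := TensorProduct.zero_tmul _ _,
                          map_add' := fun x y => TensorProduct.add_tmul x y a }
      map_zero' := AddMonoidHom.ext fun x => TensorProduct.tmul_zero _ _
      map_add' := fun x y => AddMonoidHom.ext fun z => TensorProduct.tmul_add z x y }
    (fun r a a' => by
      change a' ⊗ₜ ((r : A) * a) = ((r : A) * a') ⊗ₜ a
      rw [show (r : A) * a = e r • a from rfl, show (r : A) * a' = e r • a' from rfl]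
      exact (TensorProduct.tmul_smul _ _ _).trans (TensorProduct.smul_tmul' _ _ _))
  have hc : Function.Surjective c := fun z => by
    induction z using TensorProduct.induction_on with
    | zero => exact ⟨0, map_zero c⟩
    | add p q hp hq =>
      obtain ⟨p, rfl⟩ := hp; obtain ⟨q, rfl⟩ := hq
      exact ⟨p + q, map_add c p q⟩
    | tmul p q => exact ⟨q ⊗ₜ p, rfl⟩
  have hb := hbij (F.toAddMonoidHom.comp c) fun a a' => by
    change F (a' ⊗ₜ a) = _
    rw [hF, G_s, G_t, _root_.mul_comm]
  refine ⟨LinearEquiv.ofBijective F ⟨fun x y h => ?_, fun y => ?_⟩, hF⟩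
  · obtain ⟨x, rfl⟩ := hc x
    obtain ⟨y, rfl⟩ := hc y
    exact congrArg c (hb.1 h)
  · obtain ⟨x, hx⟩ := hb.2 y
    exact ⟨c x, hx⟩

theorem finite_inv : Module.Finite (Inv R I) A := (torsor R I).1.1

theorem projective_inv : Module.Projective (Inv R I) A := (torsor R I).1.2

theorem rank_inv (p : PrimeSpectrum (Inv R I)) :
    Module.rankAtStalk A p = Module.rankAtStalk (A ⧸ I) (p.comap (algebraMap R (Inv R I))) := by
  haveI := finite_inv R I
  haveI := projective_inv R I
  obtain ⟨P, -, hP, hPp⟩ := Ideal.exists_ideal_over_prime_of_isIntegral (R := Inv R I) (S := A) p.asIdeal (⊥ : Ideal A)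
    (by
      intro y hy
      rw [Ideal.mem_comap, Ideal.mem_bot] at hy
      rw [show y = 0 from Subtype.ext hy]
      exact zero_mem _)
  haveI := hP
  let P' : PrimeSpectrum A := ⟨P, hP⟩
  have hp : p = P'.comap (algebraMap (Inv R I) A) := PrimeSpectrum.ext hPp.symm
  obtain ⟨-, Φ, -⟩ := torsor R I
  rw [hp, ← Module.rankAtStalk_baseChange, Module.rankAtStalk_eq_of_equiv Φ, Module.rankAtStalk_baseChange,
    ← PrimeSpectrum.comap_comp_apply, ← IsScalarTower.algebraMap_eq]

theorem exists_retraction : ∃ r : A →ₗ[Inv R I] Inv R I, ∀ b : Inv R I, r (b : A) = b := by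
  obtain ⟨r, hr⟩ : ∃ r : A →ₗ[Inv R I] Inv R I, r 1 = 1 := by
    haveI := finite_inv R I
    obtain ⟨s, hs⟩ := Module.projective_def'.1 (projective_inv R I)
    -- the trace ideal is everything, so a retraction exists
    have htop : LinearMap.range (LinearMap.applyₗ (1 : A) : (A →ₗ[Inv R I] Inv R I) →ₗ[Inv R I] Inv R I) = ⊤ := by
      by_contra hne
      obtain ⟨m, hm, hle⟩ := Ideal.exists_le_maximal _ hne
      haveI := hm
      obtain ⟨P, -, hP, hPm⟩ := Ideal.exists_ideal_over_prime_of_isIntegral (R := Inv R I) (S := A) m (⊥ : Ideal A)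
        (by
          intro y hy
          rw [Ideal.mem_comap, Ideal.mem_bot] at hy
          rw [show y = 0 from Subtype.ext hy]
          exact zero_mem _)
      refine hP.ne_top ((Ideal.eq_top_iff_one _).2 ?_)
      have h1 := DFunLike.congr_fun hs (1 : A)
      rw [LinearMap.comp_apply, LinearMap.id_apply, Finsupp.linearCombination_apply] at h1
      rw [← h1]
      refine Ideal.sum_mem _ fun a _ => ?_
      have : (s 1 a : Inv R I) ∈ m := hle ⟨Finsupp.lapply a ∘ₗ s, rfl⟩
      change ((s 1 a : Inv R I) : A) * _ ∈ P
      exact P.mul_mem_right _ (hPm ▸ this : (s 1 a : Inv R I) ∈ P.comap (algebraMap (Inv R I) A))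
    exact (LinearMap.range_eq_top.1 htop) 1
  refine ⟨r, fun b => ?_⟩
  have : (b : A) = b • (1 : A) := (mul_one _).symm
  rw [this, map_smul, hr, smul_eq_mul, mul_one]

theorem finite_projective_invariants [Module.Finite R A] [Module.Projective R A] :
    Module.Finite R (Inv R I) ∧ Module.Projective R (Inv R I) := by
  obtain ⟨r, hret⟩ := exists_retraction R I
  exact ⟨Module.Finite.of_surjective (r.restrictScalars R) fun b => ⟨b, hret b⟩,
    Module.Projective.of_split ((Inv R I).val.toLinearMap) (r.restrictScalars R) (LinearMap.ext hret)⟩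

end GrothLib.HopfFinQuot
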