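import Groth.Agent.Lib.HopfFinQuot.AugIdeal
import Groth.Agent.Lib.Hopf.FiniteRank
import Groth.Prelude.Def_CartDual2
import Mathlib.RingTheory.RingHom.FaithfullyFlat

/-!
Cartier duality is exact.
-/

universe u

set_option linter.style.haveILetI false
set_option maxSynthPendingDepth 3

open TensorProduct CartDual

namespace GrothLib.HopfFinQuot

variable {R : Type u} [CommRing R] {A' A A'' : Type u} [CommRing A'] [HopfAlgebra R A'] [Coalgebra.IsCocomm R A']
  [Module.Finite R A'] [Module.Projective R A'] [CommRing A] [HopfAlgebra R A] [Coalgebra.IsCocomm R A]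
  [Module.Finite R A] [Module.Projective R A] [CommRing A''] [HopfAlgebra R A''] [Coalgebra.IsCocomm R A'']
  [Module.Finite R A''] [Module.Projective R A'']

theorem surjective_transpose_of_retraction (f : A'' →ₐc[R] A) (r : A →ₗ[R] A'') (hr : ∀ c, r (f c) = c) :
    Function.Surjective (transpose R f) := fun y =>
  ⟨WithConv.toConv (y.ofConv ∘ₗ r), WithConv.ofConv_injective (LinearMap.ext fun c => by
    change y.ofConv (r (f c)) = y.ofConv c
    rw [hr])⟩

theorem injective_transpose (g : A →ₐc[R] A') (hg : Function.Surjective g) :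
    Function.Injective (transpose R g) := fun x y h =>
  WithConv.ofConv_injective (LinearMap.ext fun a => by
    obtain ⟨a, rfl⟩ := hg a
    exact congrArg (fun z : D R A => z.ofConv a) h)

theorem faithfullyFlat_of_range {X Y : Type u} [CommRing X] [CommRing Y] [Algebra R X] [Algebra R Y] (t : X →ₐ[R] Y)
    (S : Subalgebra R Y) (ht : Function.Injective t) (hS : ∀ y, y ∈ S ↔ y ∈ Set.range t) (hff : Module.FaithfullyFlat S Y) :
    t.toRingHom.FaithfullyFlat := by
  let t' : X →+* S := (t.codRestrict S fun x => (hS _).2 ⟨x, rfl⟩).toRingHom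
  have ht' : Function.Bijective t' :=
    ⟨fun x y h => ht (congrArg Subtype.val h), fun z => let ⟨y, hy⟩ := (hS _).1 z.2; ⟨y, Subtype.ext hy⟩⟩
  exact RingHom.FaithfullyFlat.stableUnderComposition t' (algebraMap S Y)
    (RingHom.FaithfullyFlat.of_bijective (f := t') ht') (RingHom.faithfullyFlat_algebraMap_iff.2 hff)

theorem cartier_exact (f : A'' →ₐc[R] A) (r : A →ₗ[R] A'') (hr : ∀ c, r (f c) = c)
    (g : A →ₐc[R] A') (hg : Function.Surjective g)
    (hker : RingHom.ker (g : A →ₐ[R] A') = Ideal.map (f : A'' →ₐ[R] A) (RingHom.ker (Bialgebra.counitAlgHom R A''))) :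
    (transpose R g : D R A' →ₐ[R] D R A).toRingHom.FaithfullyFlat ∧
      RingHom.ker (transpose R f : D R A →ₐ[R] D R A'') =
        Ideal.map (transpose R g : D R A' →ₐ[R] D R A) (RingHom.ker (Bialgebra.counitAlgHom R (D R A'))) := by
  let tf : D R A →ₐ[R] D R A'' := transpose R f
  have htf : Function.Surjective tf := surjective_transpose_of_retraction f r hr
  let I : Ideal (D R A) := RingHom.ker tf
  let e : (D R A ⧸ I) ≃ₐ[R] D R A'' := Ideal.quotientKerAlgEquivOfSurjective htf
  have he : ∀ x, e (Ideal.Quotient.mkₐ R I x) = tf x := fun x => rfl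
  haveI : I.IsHopfIdeal R := by
    refine GrothLib.Hopf.FiniteRank.isHopfIdeal_of I ?_ ?_ ?_
    · intro x hx
      have h := CoalgHomClass.counit_comp_apply (R := R) (transpose R f) x
      rw [show transpose R f x = 0 from hx, map_zero] at h
      exact h.symm
    · intro x hx
      refine (TensorProduct.congr e.toLinearEquiv e.toLinearEquiv).injective ?_
      rw [map_zero]
      have h := (CoalgHomClass.map_comp_comul_apply (R := R) (transpose R f) x).trans
        (by rw [show transpose R f x = 0 from hx, map_zero] :
          Coalgebra.comul (R := R) (transpose R f x) = 0)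
      refine Eq.trans ?_ h
      simp only [Bialgebra.comulAlgHom_apply]
      generalize Coalgebra.comul (R := R) x = z
      induction z using TensorProduct.induction_on with
      | zero => simp
      | add p q hp hq => simp only [map_add, hp, hq]
      | tmul p q => rfl
    · intro x hx
      change transpose R f (HopfAlgebraStruct.antipode R x) = 0
      rw [← GrothLib.Hopf.bialgHom_antipode, show transpose R f x = 0 from hx, map_zero]
  haveI : Module.Finite R (D R A ⧸ I) := Module.Finite.equiv e.symm.toLinearEquiv
  haveI : Module.Projective R (D R A ⧸ I) := Module.Projective.of_equiv e.symm.toLinearEquiv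
  -- the invariants of the dual of the quotient are the forms coming from the subgroup
  let P : D R A ⊗[R] (D R A ⧸ I) ≃ₗ[R] Module.Dual R (A ⊗[R] A'') :=
    TensorProduct.congr (toDual R A) (e.toLinearEquiv ≪≫ₗ toDual R A'') ≪≫ₗ dualTensorEquiv R A A''
  have hP : ∀ (x : D R A) (a : A) (c : A''), P (trans R I x) (a ⊗ₜ c) = x.ofConv (a * f c) := by
    intro x a c
    change _ = x (a * f c)
    rw [← ev₂_comul_tmul R A x a (f c)]
    simp only [trans, AlgHom.comp_apply, Bialgebra.comulAlgHom_apply]
    change _ = ev₂ R A (Coalgebra.comul (R := R) x) (a ⊗ₜ f c)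
    induction Coalgebra.comul (R := R) x using TensorProduct.induction_on with
    | zero => simp
    | add p q hp hq => simp only [map_add, LinearMap.add_apply, hp, hq]
    | tmul p q =>
      rw [ev₂_tmul]
      simp only [Algebra.TensorProduct.map_tmul, AlgHom.id_apply, P, LinearEquiv.trans_apply, TensorProduct.congr_tmul,
        dualTensorEquiv_tmul]
      rfl
  have hP1 : ∀ (x : D R A) (a : A) (c : A''), P (x ⊗ₜ (1 : D R A ⧸ I)) (a ⊗ₜ c) =
      x.ofConv (a * algebraMap R A (Coalgebra.counit (R := R) c)) := by
    intro x a c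
    simp only [P, LinearEquiv.trans_apply, TensorProduct.congr_tmul, dualTensorEquiv_tmul]
    change x.ofConv a * (e 1).ofConv c = _
    rw [map_one, LinearMap.convOne_apply, Algebra.algebraMap_self_apply, ← Algebra.commutes, ← Algebra.smul_def,
      map_smul, smul_eq_mul, mul_comm]
  have hrange : ∀ x : D R A, x ∈ Inv R I ↔ x ∈ Set.range (transpose R g) := by
    intro x
    constructor
    · intro hx
      have h1 : ∀ (a : A) (c : A''), x.ofConv (a * (f c - algebraMap R A (Coalgebra.counit (R := R) c))) = 0 := by
        intro a c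
        rw [mul_sub, map_sub, ← hP, show trans R I x = x ⊗ₜ 1 from hx, hP1, sub_self]
      have h2 : ∀ k ∈ RingHom.ker (g : A →ₐ[R] A'), x.ofConv k = 0 := by
        intro k hk
        rw [hker] at hk
        have h3 : ∀ a : A, x.ofConv (a * k) = 0 := by
          induction hk using Submodule.span_induction with
          | mem k hk =>
            obtain ⟨c, hc, rfl⟩ := hk
            intro a
            have := h1 a c
            rw [show Coalgebra.counit (R := R) c = 0 from (hc : Bialgebra.counitAlgHom R A'' c = 0), map_zero,
              sub_zero] at this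
            exact this
          | zero => intro a; rw [mul_zero, map_zero]
          | add p q _ _ hp hq => intro a; rw [mul_add, map_add, hp, hq, add_zero]
          | smul b p _ hp => intro a; rw [smul_eq_mul, ← mul_assoc]; exact hp _
        have := h3 1
        rwa [one_mul] at this
      let gl : A →ₗ[R] A' := (g : A →ₐ[R] A').toLinearMap
      refine ⟨WithConv.toConv ((Submodule.liftQ (LinearMap.ker gl) x.ofConv fun k hk => h2 k hk) ∘ₗ
        (LinearMap.quotKerEquivOfSurjective gl hg).symm.toLinearMap),
        WithConv.ofConv_injective (LinearMap.ext fun a => ?_)⟩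
      change (Submodule.liftQ (LinearMap.ker gl) x.ofConv fun k hk => h2 k hk) ((LinearMap.quotKerEquivOfSurjective gl hg).symm (gl a)) = _
      rw [show (LinearMap.quotKerEquivOfSurjective gl hg).symm (gl a) = Submodule.Quotient.mk a from
        (LinearEquiv.symm_apply_eq _).2 rfl]
      rfl
    · rintro ⟨y, rfl⟩
      change trans R I (transpose R g y) = (transpose R g y) ⊗ₜ 1
      refine P.injective (TensorProduct.ext' fun a c => ?_)
      rw [hP, hP1]
      change y.ofConv (g (a * f c)) = y.ofConv (g (a * algebraMap R A _))
      refine congrArg y.ofConv ?_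
      rw [map_mul, map_mul]
      congr 1
      have hk : f c - algebraMap R A (Coalgebra.counit (R := R) c) ∈ RingHom.ker (g : A →ₐ[R] A') := by
        rw [hker, ← AlgHom.commutes (f : A'' →ₐ[R] A), show f c = (f : A'' →ₐ[R] A) c from rfl, ← map_sub]
        exact Ideal.mem_map_of_mem _ (by simp [RingHom.mem_ker])
      rw [← sub_eq_zero, ← map_sub]
      exact hk
  let tg : D R A' →ₐ[R] D R A := transpose R g
  refine ⟨faithfullyFlat_of_range tg (Inv R I) (injective_transpose g hg) hrange (faithfullyFlat_invariants R I), ?_⟩
  · change I = _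
    rw [← augIdealSpan_inv R I]
    have hc : ∀ y, Coalgebra.counit (R := R) (tg y) = Coalgebra.counit (R := R) y :=
      CoalgHomClass.counit_comp_apply (transpose R g)
    refine le_antisymm (Ideal.span_le.2 ?_) (Ideal.map_le_iff_le_comap.2 fun y hy => ?_)
    · rintro x ⟨hx, hx0⟩
      obtain ⟨y, rfl⟩ := (hrange x).1 hx
      exact Ideal.mem_map_of_mem _ ((hc y).symm.trans hx0)
    · exact Ideal.subset_span ⟨(hrange _).2 ⟨y, rfl⟩, (hc y).trans hy⟩

end GrothLib.HopfFinQuot
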