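import Groth.Agent.Lib.HopfFinQuot.Basic
import Groth.Agent.Lib.DynMeth.Ideals
import Groth.Prelude.Def_SGA3
import Mathlib.RingTheory.Henselian
import Mathlib.RingTheory.Finiteness.ModuleFinitePresentation
import Mathlib.RingTheory.Smooth.Fiber
import Mathlib.RingTheory.Kaehler.Basic
import Mathlib.RingTheory.LocalRing.Module
import Mathlib.RingTheory.Flat.FaithfullyFlat.Algebra

/-!
The connected-etale sequence of a finite flat group.
-/

universe u

set_option linter.style.haveILetI false
set_option maxSynthPendingDepth 3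

open TensorProduct WithConv

open scoped GrothLib.DynMeth

namespace GrothLib.HopfFinQuot

section

variable {R : Type u} [CommRing R] {Z : Type u} [CommRing Z] [Algebra R Z] [Module.Finite R Z] [IsLocalRing Z]

/-- An idempotent of `S ⊗ Z`, `Z` local with a point, is determined at the point. -/
theorem eq_one_of_point (ε : Z →ₐ[R] R) {S : Type u} [CommRing S] [Algebra R S] [Module.Finite R S]
    {E : S ⊗[R] Z} (hE : IsIdempotentElem E)
    (h1 : Algebra.TensorProduct.rid R R S (Algebra.TensorProduct.map (AlgHom.id R S) ε E) = 1) : E = 1 := by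
  rcases subsingleton_or_nontrivial R with hR | hR
  · haveI := Module.subsingleton R (S ⊗[R] Z)
    exact Subsingleton.elim _ _
  let q : S ⊗[R] Z →ₐ[R] S :=
    (Algebra.TensorProduct.rid R R S).toAlgHom.comp (Algebra.TensorProduct.map (AlgHom.id R S) ε)
  have hker : RingHom.ker ε ≤ IsLocalRing.maximalIdeal Z := IsLocalRing.le_maximalIdeal (RingHom.ker_ne_top _)
  have hsplit : ∀ w : S ⊗[R] Z,
      w - q w ⊗ₜ[R] (1 : Z) ∈ Ideal.map (Algebra.TensorProduct.includeRight (R := R) (A := S)) (RingHom.ker ε) := by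
    intro w
    induction w using TensorProduct.induction_on with
    | zero => simp
    | add x y hx hy =>
      have := add_mem hx hy
      rw [map_add, TensorProduct.add_tmul]
      rwa [add_sub_add_comm]
    | tmul s z =>
      have hz : z - algebraMap R Z (ε z) ∈ RingHom.ker ε := by
        rw [RingHom.mem_ker, map_sub, AlgHom.commutes, Algebra.algebraMap_self_apply, sub_self]
      have he : s ⊗ₜ[R] z - q (s ⊗ₜ z) ⊗ₜ[R] (1 : Z) =
          (s ⊗ₜ[R] (1 : Z)) * Algebra.TensorProduct.includeRight (z - algebraMap R Z (ε z)) := by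
        simp [q, mul_sub, Algebra.TensorProduct.algebraMap_apply, TensorProduct.tmul_sub, TensorProduct.smul_tmul,
          Algebra.algebraMap_eq_smul_one]
      rw [he]
      exact Ideal.mul_mem_left _ _ (Ideal.mem_map_of_mem _ hz)
  have hle : Ideal.map (Algebra.TensorProduct.includeRight (R := R) (A := S) (B := Z)) (RingHom.ker ε) ≤
      (⊥ : Ideal (S ⊗[R] Z)).jacobson := by
    rw [Ideal.map_le_iff_le_comap]
    intro z hz
    rw [Ideal.mem_comap, Ideal.jacobson, Submodule.mem_sInf]
    rintro (M : Ideal (S ⊗[R] Z)) ⟨-, hM⟩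
    haveI := hM
    letI : Algebra Z (S ⊗[R] Z) := Algebra.TensorProduct.rightAlgebra
    haveI : Module.Finite Z (S ⊗[R] Z) := Module.Finite.equiv (R := Z) (M := Z ⊗[R] S)
      { Algebra.TensorProduct.comm R Z S with
        map_smul' := fun c x => by
          induction x using TensorProduct.induction_on with
          | zero => simp
          | add x y hx hy => simp only [smul_add]; simp_all
          | tmul a b =>
            change Algebra.TensorProduct.comm R Z S ((c * a) ⊗ₜ b) =
              Algebra.TensorProduct.includeRight c * Algebra.TensorProduct.comm R Z S (a ⊗ₜ b)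
            simp }
    haveI : Algebra.IsIntegral Z (S ⊗[R] Z) := Algebra.IsIntegral.of_finite Z _
    have hm : (M.comap (algebraMap Z (S ⊗[R] Z))).IsMaximal := Ideal.isMaximal_comap_of_isIntegral_of_isMaximal M
    have : z ∈ M.comap (algebraMap Z (S ⊗[R] Z)) := by
      rw [IsLocalRing.eq_maximalIdeal hm]
      exact hker hz
    exact this
  have h2 : E - 1 ∈ (⊥ : Ideal (S ⊗[R] Z)).jacobson := by
    have := hle (hsplit E)
    rwa [show q E = 1 from h1] at this
  have h3 : IsUnit E := by
    have := Ideal.mem_jacobson_bot.1 h2 1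
    rwa [mul_one, sub_add_cancel] at this
  exact (IsIdempotentElem.iff_eq_one_of_isUnit h3).1 hE

end

variable {R : Type u} [CommRing R] {A : Type u} [CommRing A] [HopfAlgebra R A] [Module.Finite R A]
  {e : A} (he : IsIdempotentElem e) (hε : Bialgebra.counitAlgHom R A e = 1)
  [IsLocalRing (A ⧸ Ideal.span ({1 - e} : Set A))]

/-- The unit of the connected component. -/
noncomputable def eps (hε : Bialgebra.counitAlgHom R A e = 1) : A ⧸ (Ideal.span ({1 - e} : Set A)) →ₐ[R] R :=
  Ideal.Quotient.liftₐ _ (Bialgebra.counitAlgHom R A) fun a ha => by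
    obtain ⟨c, rfl⟩ := Ideal.mem_span_singleton'.1 ha
    rw [map_mul, map_sub, hε, map_one, sub_self, mul_zero]

omit [Module.Finite R A] [IsLocalRing (A ⧸ Ideal.span ({1 - e} : Set A))] in
theorem mem_iff {C : Type u} [CommRing C] [Algebra R C] (g : A →ₐ[R] C) :
    (∀ a ∈ (Ideal.span ({1 - e} : Set A)), g a = 0) ↔ g e = 1 := by
  constructor
  · intro h
    have := h (1 - e) (Ideal.subset_span rfl)
    rw [map_sub, map_one, sub_eq_zero] at this
    exact this.symm
  · intro h a ha
    obtain ⟨c, rfl⟩ := Ideal.mem_span_singleton'.1 ha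
    rw [map_mul, map_sub, h, map_one, sub_self, mul_zero]

omit [Module.Finite R A] [IsLocalRing (A ⧸ Ideal.span ({1 - e} : Set A))] in
theorem mk_e : Ideal.Quotient.mkₐ R (Ideal.span ({1 - e} : Set A)) e = 1 := (mem_iff _).1 fun _ ha => Ideal.Quotient.eq_zero_iff_mem.2 ha

include he hε in
/-- A point of the component conjugated by any point is in the component. -/
theorem conj_e {C : Type u} [CommRing C] [Algebra R C] (x g : WithConv (A →ₐ[R] C)) (hg : g.ofConv e = 1) :
    (x * g * x⁻¹).ofConv e = 1 := by
  let X : WithConv (A →ₐ[R] A ⊗[R] (A ⧸ (Ideal.span ({1 - e} : Set A)))) := toConv Algebra.TensorProduct.includeLeft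
  let G₀ : WithConv (A →ₐ[R] A ⊗[R] (A ⧸ (Ideal.span ({1 - e} : Set A)))) :=
    toConv (Algebra.TensorProduct.includeRight.comp (Ideal.Quotient.mkₐ R (Ideal.span ({1 - e} : Set A))))
  have huniv : (X * G₀ * X⁻¹).ofConv e = 1 := by
    refine eq_one_of_point (eps hε) (he.map _) ?_
    let q : A ⊗[R] (A ⧸ (Ideal.span ({1 - e} : Set A))) →ₐ[R] A :=
      (Algebra.TensorProduct.rid R R A).toAlgHom.comp (Algebra.TensorProduct.map (AlgHom.id R A) (eps hε))
    change q ((X * G₀ * X⁻¹).ofConv e) = 1
    have h1 : toConv (q.comp G₀.ofConv) = 1 := by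
      refine WithConv.ofConv_injective (AlgHom.ext fun a => ?_)
      simp [G₀, q, eps, Algebra.algebraMap_eq_smul_one]
    have h2 : toConv (q.comp (X * G₀ * X⁻¹).ofConv) = 1 := by
      rw [DynMeth.comp_mul, DynMeth.comp_mul, DynMeth.comp_inv, h1, _root_.mul_one, mul_inv_cancel]
    have := DFunLike.congr_fun (congrArg ofConv h2) e
    rw [ofConv_toConv, AlgHom.comp_apply, DynMeth.one_apply,
      show Coalgebra.counit (R := R) e = 1 from hε, map_one] at this
    exact this
  let l : A ⊗[R] (A ⧸ (Ideal.span ({1 - e} : Set A))) →ₐ[R] C := Algebra.TensorProduct.lift x.ofConv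
    (Ideal.Quotient.liftₐ _ g.ofConv ((mem_iff _).2 hg)) (fun _ _ => Commute.all _ _)
  have hX : toConv (l.comp X.ofConv) = x := WithConv.ofConv_injective (AlgHom.ext fun a => by simp [l, X])
  have hG : toConv (l.comp G₀.ofConv) = g := WithConv.ofConv_injective (AlgHom.ext fun a => by simp [l, G₀])
  have h := congrArg l huniv
  rw [map_one, ← AlgHom.comp_apply] at h
  have h3 : toConv (l.comp (X * G₀ * X⁻¹).ofConv) = x * g * x⁻¹ := by
    rw [DynMeth.comp_mul, DynMeth.comp_mul, DynMeth.comp_inv, hX, hG]
  exact (DFunLike.congr_fun (congrArg ofConv h3) e).symm.trans h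

include he hε in
/-- The component is a subgroup. -/
theorem isHopfIdeal : Ideal.IsHopfIdeal R (Ideal.span ({1 - e} : Set A)) := by
  refine DynMeth.isHopfIdeal_of_represents (Ideal.span ({1 - e} : Set A)) (fun C _ _ g => g e = 1) (fun C _ _ g => mem_iff g) ?_ ?_ ?_
  · rw [DynMeth.one_apply, show Coalgebra.counit (R := R) e = 1 from hε, map_one]
  · intro C _ _ f g hf hg
    let P : WithConv (A →ₐ[R] (A ⧸ (Ideal.span ({1 - e} : Set A))) ⊗[R] (A ⧸ (Ideal.span ({1 - e} : Set A)))) :=
      toConv (Algebra.TensorProduct.includeLeft.comp (Ideal.Quotient.mkₐ R (Ideal.span ({1 - e} : Set A))))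
    let Q : WithConv (A →ₐ[R] (A ⧸ (Ideal.span ({1 - e} : Set A))) ⊗[R] (A ⧸ (Ideal.span ({1 - e} : Set A)))) :=
      toConv (Algebra.TensorProduct.includeRight.comp (Ideal.Quotient.mkₐ R (Ideal.span ({1 - e} : Set A))))
    have huniv : (P * Q).ofConv e = 1 := by
      refine eq_one_of_point (eps hε) (he.map _) ?_
      let q : (A ⧸ (Ideal.span ({1 - e} : Set A))) ⊗[R] (A ⧸ (Ideal.span ({1 - e} : Set A))) →ₐ[R] A ⧸ (Ideal.span ({1 - e} : Set A)) :=
        (Algebra.TensorProduct.rid R R _).toAlgHom.comp (Algebra.TensorProduct.map (AlgHom.id R _) (eps hε))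
      change q ((P * Q).ofConv e) = 1
      have h1 : toConv (q.comp Q.ofConv) = 1 := by
        refine WithConv.ofConv_injective (AlgHom.ext fun a => ?_)
        simp [Q, q, eps, Algebra.algebraMap_eq_smul_one]
      have h2 : toConv (q.comp (P * Q).ofConv) = toConv (Ideal.Quotient.mkₐ R (Ideal.span ({1 - e} : Set A))) := by
        rw [DynMeth.comp_mul, h1, _root_.mul_one]
        exact WithConv.ofConv_injective (AlgHom.ext fun a => by simp [P, q])
      exact (DFunLike.congr_fun (congrArg ofConv h2) e).trans mk_e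
    let l : (A ⧸ (Ideal.span ({1 - e} : Set A))) ⊗[R] (A ⧸ (Ideal.span ({1 - e} : Set A))) →ₐ[R] C := Algebra.TensorProduct.lift
      (Ideal.Quotient.liftₐ _ f.ofConv ((mem_iff _).2 hf))
      (Ideal.Quotient.liftₐ _ g.ofConv ((mem_iff _).2 hg)) (fun _ _ => Commute.all _ _)
    have hP : toConv (l.comp P.ofConv) = f := WithConv.ofConv_injective (AlgHom.ext fun a => by simp [l, P])
    have hQ : toConv (l.comp Q.ofConv) = g := WithConv.ofConv_injective (AlgHom.ext fun a => by simp [l, Q])
    have h3 : toConv (l.comp (P * Q).ofConv) = f * g := by rw [DynMeth.comp_mul, hP, hQ]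
    have h := congrArg l huniv
    rw [map_one, ← AlgHom.comp_apply] at h
    exact (DFunLike.congr_fun (congrArg ofConv h3) e).symm.trans h
  · intro C _ _ f hf
    let E := Ideal.Quotient.mkₐ R (Ideal.span ({1 - e} : Set A)) (HopfAlgebra.antipodeAlgHom R A e)
    have hE : IsIdempotentElem E := (he.map (HopfAlgebra.antipodeAlgHom R A)).map _
    have h1 : E = 1 := by
      rcases (IsLocalRing.isUnit_or_isUnit_one_sub_self E) with h | h
      · exact (IsIdempotentElem.iff_eq_one_of_isUnit h).1 hE
      · have h0 : E = 0 := by simpa using (IsIdempotentElem.iff_eq_one_of_isUnit h).1 hE.one_sub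
        have := congrArg (eps hε) h0
        simp only [E, eps, Ideal.Quotient.mkₐ_eq_mk, Ideal.Quotient.liftₐ_apply, Ideal.Quotient.lift_mk,
          map_zero] at this
        have h2 : Bialgebra.counitAlgHom R A (HopfAlgebra.antipodeAlgHom R A e) = 1 :=
          (HopfAlgebra.counit_antipode (R := R) e).trans hε
        rcases subsingleton_or_nontrivial R with hR | hR
        · haveI := Module.subsingleton R (A ⧸ (Ideal.span ({1 - e} : Set A)))
          exact Subsingleton.elim _ _
        · exact absurd (this.symm.trans h2) zero_ne_one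
    have := congrArg (Ideal.Quotient.liftₐ _ f.ofConv ((mem_iff _).2 hf)) h1
    rw [map_one] at this
    exact this

include he in
theorem projective_component [Module.Projective R A] : Module.Projective R (A ⧸ (Ideal.span ({1 - e} : Set A))) := by
  let s : A ⧸ (Ideal.span ({1 - e} : Set A)) →ₗ[R] A := Submodule.liftQ (Submodule.restrictScalars R (Ideal.span ({1 - e} : Set A))) (LinearMap.mulLeft R e) fun x hx => by
    obtain ⟨c, rfl⟩ := Ideal.mem_span_singleton'.1 (show x ∈ (Ideal.span ({1 - e} : Set A)) from hx)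
    rw [LinearMap.mem_ker, LinearMap.mulLeft_apply]
    linear_combination (-c) * he.eq
  refine Module.Projective.of_split s (Ideal.Quotient.mkₐ R (Ideal.span ({1 - e} : Set A))).toLinearMap (LinearMap.ext fun x => ?_)
  obtain ⟨a, rfl⟩ := Ideal.Quotient.mk_surjective x
  change Ideal.Quotient.mkₐ R (Ideal.span ({1 - e} : Set A)) (e * a) = _
  rw [map_mul, mk_e, one_mul]
  rfl

section Inv

variable [Ideal.IsHopfIdeal R (Ideal.span ({1 - e} : Set A))]

omit [Module.Finite R A] [IsLocalRing (A ⧸ Ideal.span ({1 - e} : Set A))] in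
theorem trans_eq : toConv (trans R (Ideal.span ({1 - e} : Set A))) = toConv Algebra.TensorProduct.includeLeft *
    toConv (Algebra.TensorProduct.includeRight.comp (Ideal.Quotient.mkₐ R (Ideal.span ({1 - e} : Set A)))) := by
  refine WithConv.ofConv_injective (AlgHom.ext fun a => ?_)
  rw [AlgHom.convMul_apply]
  simp only [ofConv_toConv, trans, AlgHom.comp_apply, Bialgebra.comulAlgHom_apply]
  induction Coalgebra.comul (R := R) a using TensorProduct.induction_on with
  | zero => simp
  | add p q hp hq => simp only [map_add, hp, hq]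
  | tmul p q => simp

omit [Module.Finite R A] [IsLocalRing (A ⧸ Ideal.span ({1 - e} : Set A))] in
theorem inv_apply {b : A} (hb : b ∈ Inv R (Ideal.span ({1 - e} : Set A))) {C : Type u} [CommRing C] [Algebra R C]
    (x g : WithConv (A →ₐ[R] C)) (hg : g.ofConv e = 1) : (x * g).ofConv b = x.ofConv b := by
  let l : A ⊗[R] (A ⧸ (Ideal.span ({1 - e} : Set A))) →ₐ[R] C := Algebra.TensorProduct.lift x.ofConv
    (Ideal.Quotient.liftₐ _ g.ofConv ((mem_iff _).2 hg)) (fun _ _ => Commute.all _ _)
  have h : toConv (l.comp (trans R (Ideal.span ({1 - e} : Set A)))) = x * g := by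
    rw [show trans R (Ideal.span ({1 - e} : Set A)) = (toConv (trans R (Ideal.span ({1 - e} : Set A)))).ofConv from rfl, trans_eq, DynMeth.comp_mul]
    congr 1 <;> exact WithConv.ofConv_injective (AlgHom.ext fun a => by simp [l])
  rw [← h, ofConv_toConv, AlgHom.comp_apply, show trans R (Ideal.span ({1 - e} : Set A)) b = b ⊗ₜ 1 from hb]
  simp [l]

include he hε in
/-- The invariants form a Hopf subalgebra. -/
theorem isHopfSubalgebra [Module.Projective R A] : SGA3.IsHopfSubalgebra R A (Inv R (Ideal.span ({1 - e} : Set A))) := by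
  haveI := projective_component (R := R) he
  haveI : Module.Finite R (A ⧸ (Ideal.span ({1 - e} : Set A))) :=
    Module.Finite.of_surjective (Ideal.Quotient.mkₐ R (Ideal.span ({1 - e} : Set A))).toLinearMap Ideal.Quotient.mk_surjective
  haveI := (finite_projective_invariants R (Ideal.span ({1 - e} : Set A))).2
  refine ⟨fun b hb => ?_, fun b hb => ?_⟩
  · let d : A →ₗ[R] A ⊗[R] (A ⧸ (Ideal.span ({1 - e} : Set A))) :=
      (trans R (Ideal.span ({1 - e} : Set A))).toLinearMap - (Algebra.TensorProduct.includeLeft : A →ₐ[R] A ⊗[R] (A ⧸ (Ideal.span ({1 - e} : Set A)))).toLinearMap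
    have hd : Function.Exact (Inv R (Ideal.span ({1 - e} : Set A))).val.toLinearMap d := fun a => by
      constructor
      · intro h
        exact ⟨⟨a, sub_eq_zero.1 h⟩, rfl⟩
      · rintro ⟨y, rfl⟩
        exact sub_eq_zero.2 y.2
    obtain ⟨r, hr⟩ := exists_retraction R (Ideal.span ({1 - e} : Set A))
    have hinj : Function.Injective ((Inv R (Ideal.span ({1 - e} : Set A))).val.toLinearMap.lTensor (A ⊗[R] (A ⧸ (Ideal.span ({1 - e} : Set A))))) :=
      Function.LeftInverse.injective (g := (r.restrictScalars R).lTensor (A ⊗[R] (A ⧸ (Ideal.span ({1 - e} : Set A))))) fun z => by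
        rw [← LinearMap.comp_apply, ← LinearMap.lTensor_comp,
          show r.restrictScalars R ∘ₗ (Inv R (Ideal.span ({1 - e} : Set A))).val.toLinearMap = LinearMap.id from LinearMap.ext hr,
          LinearMap.lTensor_id, LinearMap.id_apply]
    -- invariance in the second variable
    have h2 : d.lTensor A (Coalgebra.comul (R := R) b) = 0 := by
      let X : WithConv (A →ₐ[R] A ⊗[R] (A ⊗[R] (A ⧸ (Ideal.span ({1 - e} : Set A))))) := toConv Algebra.TensorProduct.includeLeft
      let Y : WithConv (A →ₐ[R] A ⊗[R] (A ⊗[R] (A ⧸ (Ideal.span ({1 - e} : Set A))))) :=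
        toConv (Algebra.TensorProduct.includeRight.comp Algebra.TensorProduct.includeLeft)
      let Gg : WithConv (A →ₐ[R] A ⊗[R] (A ⊗[R] (A ⧸ (Ideal.span ({1 - e} : Set A))))) :=
        toConv (Algebra.TensorProduct.includeRight.comp
          (Algebra.TensorProduct.includeRight.comp (Ideal.Quotient.mkₐ R (Ideal.span ({1 - e} : Set A)))))
      have hGg : Gg.ofConv e = 1 := by
        change Algebra.TensorProduct.includeRight (Algebra.TensorProduct.includeRight
          (Ideal.Quotient.mkₐ R (Ideal.span ({1 - e} : Set A)) e)) = 1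
        rw [mk_e, map_one, map_one]
      have key : ∀ (f : A →ₐ[R] A ⊗[R] (A ⧸ (Ideal.span ({1 - e} : Set A)))) (a : A), f.toLinearMap.lTensor A (Coalgebra.comul (R := R) a) =
          (X * toConv ((Algebra.TensorProduct.includeRight (R := R) (A := A)).comp f)).ofConv a := fun f a => by
        rw [AlgHom.convMul_apply]
        simp only [ofConv_toConv, X]
        induction Coalgebra.comul (R := R) a using TensorProduct.induction_on with
        | zero => simp
        | add p q hp hq => simp only [map_add, hp, hq]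
        | tmul p q => simp
      have ht : toConv ((Algebra.TensorProduct.includeRight (R := R) (A := A)).comp (trans R (Ideal.span ({1 - e} : Set A)))) = Y * Gg := by
        rw [show trans R (Ideal.span ({1 - e} : Set A)) = (toConv (trans R (Ideal.span ({1 - e} : Set A)))).ofConv from rfl, trans_eq, DynMeth.comp_mul]
      simp only [d, LinearMap.lTensor_sub, LinearMap.sub_apply, key, ht, ← _root_.mul_assoc]
      rw [inv_apply hb (X * Y) Gg hGg, sub_self]
    obtain ⟨z, hz⟩ := (Module.Flat.lTensor_exact A hd _).1 h2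
    -- invariance in the first variable
    have h1 : d.rTensor A (Coalgebra.comul (R := R) b) = 0 := by
      let X : WithConv (A →ₐ[R] (A ⊗[R] (A ⧸ (Ideal.span ({1 - e} : Set A)))) ⊗[R] A) :=
        toConv (Algebra.TensorProduct.includeLeft.comp Algebra.TensorProduct.includeLeft)
      let Y : WithConv (A →ₐ[R] (A ⊗[R] (A ⧸ (Ideal.span ({1 - e} : Set A)))) ⊗[R] A) := toConv Algebra.TensorProduct.includeRight
      let Gg : WithConv (A →ₐ[R] (A ⊗[R] (A ⧸ (Ideal.span ({1 - e} : Set A)))) ⊗[R] A) :=
        toConv ((Algebra.TensorProduct.includeLeft (S := R)).comp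
          (Algebra.TensorProduct.includeRight.comp (Ideal.Quotient.mkₐ R (Ideal.span ({1 - e} : Set A)))))
      have hGg : Gg.ofConv e = 1 := by
        change Algebra.TensorProduct.includeLeft (S := R) (Algebra.TensorProduct.includeRight
          (Ideal.Quotient.mkₐ R (Ideal.span ({1 - e} : Set A)) e)) = 1
        rw [mk_e, map_one, map_one]
      have key : ∀ (f : A →ₐ[R] A ⊗[R] (A ⧸ (Ideal.span ({1 - e} : Set A)))) (a : A), f.toLinearMap.rTensor A (Coalgebra.comul (R := R) a) =
          (toConv ((Algebra.TensorProduct.includeLeft (S := R)).comp f) * Y).ofConv a := fun f a => by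
        rw [AlgHom.convMul_apply]
        simp only [ofConv_toConv, Y]
        induction Coalgebra.comul (R := R) a using TensorProduct.induction_on with
        | zero => simp
        | add p q hp hq => simp only [map_add, hp, hq]
        | tmul p q => simp
      have ht : toConv ((Algebra.TensorProduct.includeLeft (R := R) (S := R) (B := A)).comp (trans R (Ideal.span ({1 - e} : Set A)))) =
          X * Gg := by
        rw [show trans R (Ideal.span ({1 - e} : Set A)) = (toConv (trans R (Ideal.span ({1 - e} : Set A)))).ofConv from rfl, trans_eq, DynMeth.comp_mul]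
      simp only [d, LinearMap.rTensor_sub, LinearMap.sub_apply, key, ht]
      rw [show X * Gg * Y = X * Y * (Y⁻¹ * Gg * Y⁻¹⁻¹) by group,
        inv_apply hb (X * Y) _ (conj_e he hε Y⁻¹ Gg hGg), sub_self]
    rw [← hz] at h1
    have h1' : d.rTensor (Inv R (Ideal.span ({1 - e} : Set A))) z = 0 := by
      refine hinj ?_
      rw [map_zero, ← LinearMap.comp_apply, LinearMap.lTensor_comp_rTensor, ← LinearMap.rTensor_comp_lTensor,
        LinearMap.comp_apply]
      exact h1
    obtain ⟨w, hw⟩ := (Module.Flat.rTensor_exact (Inv R (Ideal.span ({1 - e} : Set A))) hd _).1 h1'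
    refine ⟨w, ?_⟩
    rw [← hz, ← hw, ← LinearMap.comp_apply, LinearMap.lTensor_comp_rTensor]
  · -- the antipode
    change trans R (Ideal.span ({1 - e} : Set A)) (HopfAlgebra.antipodeAlgHom R A b) = (HopfAlgebra.antipodeAlgHom R A b) ⊗ₜ (1 : A ⧸ (Ideal.span ({1 - e} : Set A)))
    let X : WithConv (A →ₐ[R] A ⊗[R] (A ⧸ (Ideal.span ({1 - e} : Set A)))) := toConv Algebra.TensorProduct.includeLeft
    let Gg : WithConv (A →ₐ[R] A ⊗[R] (A ⧸ (Ideal.span ({1 - e} : Set A)))) :=
      toConv (Algebra.TensorProduct.includeRight.comp (Ideal.Quotient.mkₐ R (Ideal.span ({1 - e} : Set A))))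
    have hGg : Gg⁻¹.ofConv e = 1 := by
      change Algebra.TensorProduct.includeRight (Ideal.Quotient.mkₐ R (Ideal.span ({1 - e} : Set A)) (HopfAlgebra.antipodeAlgHom R A e)) = 1
      have h := (mem_iff (R := R) (e := e) ((Ideal.Quotient.mkₐ R (Ideal.span ({1 - e} : Set A))).comp (HopfAlgebra.antipodeAlgHom R A))).1
        fun a ha => Ideal.Quotient.eq_zero_iff_mem.2 ((inferInstance : Ideal.IsHopfIdeal R (Ideal.span ({1 - e} : Set A))).antipode_mem ha)
      rw [show Ideal.Quotient.mkₐ R (Ideal.span ({1 - e} : Set A)) (HopfAlgebra.antipodeAlgHom R A e) = 1 from h, map_one]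
    have h : ((X * Gg)⁻¹).ofConv b = X⁻¹.ofConv b := by
      rw [show (X * Gg)⁻¹ = X⁻¹ * (X * Gg⁻¹ * X⁻¹) by rw [mul_inv_rev, ← _root_.mul_assoc, inv_mul_cancel_left]]
      exact inv_apply hb X⁻¹ _ (conj_e he hε X Gg⁻¹ hGg)
    rw [← trans_eq] at h
    exact h

include he hε in
theorem etale_inv [Module.Projective R A] : Algebra.Etale R (Inv R (Ideal.span ({1 - e} : Set A))) := by
  haveI := projective_component (R := R) he
  haveI : Module.Finite R (A ⧸ (Ideal.span ({1 - e} : Set A))) :=
    Module.Finite.of_surjective (Ideal.Quotient.mkₐ R (Ideal.span ({1 - e} : Set A))).toLinearMap Ideal.Quotient.mk_surjective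
  obtain ⟨hfin, hproj⟩ := finite_projective_invariants R (Ideal.span ({1 - e} : Set A))
  haveI := hfin
  haveI := hproj
  haveI : Module.FinitePresentation R (Inv R (Ideal.span ({1 - e} : Set A))) := Module.finitePresentation_of_projective R _
  haveI : Algebra.FinitePresentation R (Inv R (Ideal.span ({1 - e} : Set A))) := inferInstance
  obtain ⟨r, hr⟩ := exists_retraction R (Ideal.span ({1 - e} : Set A))
  obtain ⟨-, Φ, hΦ⟩ := torsor R (Ideal.span ({1 - e} : Set A))
  let i : Inv R (Ideal.span ({1 - e} : Set A)) →ₐ[R] A := (Inv R (Ideal.span ({1 - e} : Set A))).val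
  let i2 : Inv R (Ideal.span ({1 - e} : Set A)) ⊗[R] Inv R (Ideal.span ({1 - e} : Set A)) →ₐ[R] A ⊗[R] A := Algebra.TensorProduct.map i i
  let K := KaehlerDifferential.ideal R (Inv R (Ideal.span ({1 - e} : Set A)))
  let J := K.map i2
  -- `J` cuts out the fibre product over the invariants
  let q : A ⊗[R] A →ₐ[R] A ⊗[R] (A ⧸ (Ideal.span ({1 - e} : Set A))) :=
    Algebra.TensorProduct.lift Algebra.TensorProduct.includeLeft (trans R (Ideal.span ({1 - e} : Set A))) (fun _ _ => Commute.all _ _)
  have hq : ∀ a a', q (a ⊗ₜ a') = (a ⊗ₜ[R] (1 : A ⧸ (Ideal.span ({1 - e} : Set A)))) * trans R (Ideal.span ({1 - e} : Set A)) a' := fun a a' => by simp [q]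
  have hJ : J = RingHom.ker q := by
    refine le_antisymm ?_ fun x hx => ?_
    · rw [Ideal.map_le_iff_le_comap, show K = Ideal.span (Set.range fun s : Inv R (Ideal.span ({1 - e} : Set A)) =>
        (1 : Inv R (Ideal.span ({1 - e} : Set A))) ⊗ₜ[R] s - s ⊗ₜ[R] 1) from (KaehlerDifferential.span_range_eq_ideal R _).symm, Ideal.span_le]
      rintro _ ⟨s, rfl⟩
      change q (i2 _) = 0
      rw [map_sub, map_sub]
      simp only [i2, i, Algebra.TensorProduct.map_tmul, hq, map_one, mul_one]
      rw [show (Inv R (Ideal.span ({1 - e} : Set A))).val s = (s : A) from rfl, show trans R (Ideal.span ({1 - e} : Set A)) (s : A) = (s : A) ⊗ₜ 1 from s.2]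
      simp [Algebra.TensorProduct.one_def]
    · let m : A ⊗[R] A →+* (A ⊗[R] A) ⧸ J := Ideal.Quotient.mk J
      have hswap : ∀ s : Inv R (Ideal.span ({1 - e} : Set A)), m ((1 : A) ⊗ₜ (s : A)) = m ((s : A) ⊗ₜ (1 : A)) := fun s => by
        refine Ideal.Quotient.eq.2 ?_
        have := Ideal.mem_map_of_mem i2 (show ((1 : Inv R (Ideal.span ({1 - e} : Set A))) ⊗ₜ[R] s - s ⊗ₜ[R] 1) ∈ K from by
          rw [show K = Ideal.span (Set.range fun s : Inv R (Ideal.span ({1 - e} : Set A)) => (1 : Inv R (Ideal.span ({1 - e} : Set A))) ⊗ₜ[R] s - s ⊗ₜ[R] 1) from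
            (KaehlerDifferential.span_range_eq_ideal R _).symm]
          exact Ideal.subset_span ⟨s, rfl⟩)
        simpa [i2, i] using this
      let can : A ⊗[Inv R (Ideal.span ({1 - e} : Set A))] A →+ (A ⊗[R] A) ⧸ J := TensorProduct.liftAddHom
        { toFun := fun a => { toFun := fun a' => m (a ⊗ₜ a'), map_zero' := by simp,
                              map_add' := fun u v => by rw [TensorProduct.tmul_add, map_add] }
          map_zero' := AddMonoidHom.ext fun u => by simp
          map_add' := fun u v => AddMonoidHom.ext fun w => by simp [TensorProduct.add_tmul] }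
        (fun s a a' => by
          change m (((s : A) * a) ⊗ₜ a') = m (a ⊗ₜ ((s : A) * a'))
          rw [show (((s : A) * a) ⊗ₜ[R] a') = ((s : A) ⊗ₜ[R] (1 : A)) * (a ⊗ₜ a') by simp,
            show (a ⊗ₜ[R] ((s : A) * a')) = ((1 : A) ⊗ₜ[R] (s : A)) * (a ⊗ₜ a') by simp, map_mul, map_mul, hswap])
      have h : ∀ w : A ⊗[R] A, ∃ v : A ⊗[Inv R (Ideal.span ({1 - e} : Set A))] A, can v = m w ∧ Φ v = q w := fun w => by
        induction w using TensorProduct.induction_on with
        | zero => exact ⟨0, by simp, by simp⟩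
        | add w w' hw hw' =>
          obtain ⟨v, h1, h2⟩ := hw
          obtain ⟨v', h1', h2'⟩ := hw'
          exact ⟨v + v', by rw [map_add, map_add, h1, h1'], by rw [map_add, map_add, h2, h2']⟩
        | tmul a a' =>
          refine ⟨a ⊗ₜ a', ?_, (hΦ a a').trans (hq a a').symm⟩
          rfl
      obtain ⟨v, h1, h2⟩ := h x
      have hv : v = 0 := Φ.injective (h2.trans ((RingHom.mem_ker.1 hx).trans (map_zero _).symm))
      rw [hv, map_zero] at h1
      exact Ideal.Quotient.eq_zero_iff_mem.1 h1.symm
  -- and is generated by an idempotent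
  have hJJ : J ≤ J * J := by
    intro x hx
    let γ : A ⊗[R] A →ₐ[R] A ⊗[R] A :=
      Algebra.TensorProduct.lift Algebra.TensorProduct.includeLeft (Bialgebra.comulAlgHom R A)
        (fun _ _ => Commute.all _ _)
    let γ' : A ⊗[R] A →ₐ[R] A ⊗[R] A :=
      Algebra.TensorProduct.lift Algebra.TensorProduct.includeLeft
        ((toConv (Algebra.TensorProduct.includeLeft : A →ₐ[R] A ⊗[R] A))⁻¹ *
          toConv (Algebra.TensorProduct.includeRight : A →ₐ[R] A ⊗[R] A)).ofConv
        (fun _ _ => Commute.all _ _)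
    have hcom : toConv (Bialgebra.comulAlgHom R A) = toConv (Algebra.TensorProduct.includeLeft : A →ₐ[R] A ⊗[R] A) *
        toConv (Algebra.TensorProduct.includeRight : A →ₐ[R] A ⊗[R] A) := by
      refine WithConv.ofConv_injective (AlgHom.ext fun b => ?_)
      rw [AlgHom.convMul_apply]
      simp only [ofConv_toConv, Bialgebra.comulAlgHom_apply]
      induction Coalgebra.comul (R := R) b using TensorProduct.induction_on with
      | zero => simp
      | add u v hu hv => simp only [map_add, ← hu, ← hv]
      | tmul u v => simp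
    have hgg' : γ.comp γ' = AlgHom.id R _ := by
      refine Algebra.TensorProduct.ext (AlgHom.ext fun a => by simp [γ, γ']) (toConv_injective ?_)
      have hl : γ.comp (Algebra.TensorProduct.includeLeft : A →ₐ[R] A ⊗[R] A) =
          Algebra.TensorProduct.includeLeft := AlgHom.ext fun a => by simp [γ]
      have hr : γ.comp (Algebra.TensorProduct.includeRight : A →ₐ[R] A ⊗[R] A) = Bialgebra.comulAlgHom R A :=
        AlgHom.ext fun a => by simp [γ]
      have h' : γ'.comp (Algebra.TensorProduct.includeRight : A →ₐ[R] A ⊗[R] A) =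
          ((toConv (Algebra.TensorProduct.includeLeft : A →ₐ[R] A ⊗[R] A))⁻¹ *
            toConv (Algebra.TensorProduct.includeRight : A →ₐ[R] A ⊗[R] A)).ofConv :=
        AlgHom.ext fun a => by simp [γ']
      change toConv (γ.comp (γ'.comp Algebra.TensorProduct.includeRight)) = toConv Algebra.TensorProduct.includeRight
      rw [h', DynMeth.comp_mul, DynMeth.comp_inv, ofConv_toConv, ofConv_toConv, hl, hr, hcom, inv_mul_cancel_left]
    have hgg : γ'.comp γ = AlgHom.id R _ := by
      refine Algebra.TensorProduct.ext (AlgHom.ext fun a => by simp [γ, γ']) (toConv_injective ?_)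
      have hl : γ'.comp (Algebra.TensorProduct.includeLeft : A →ₐ[R] A ⊗[R] A) =
          Algebra.TensorProduct.includeLeft := AlgHom.ext fun a => by simp [γ']
      have hr : γ'.comp (Algebra.TensorProduct.includeRight : A →ₐ[R] A ⊗[R] A) =
          ((toConv (Algebra.TensorProduct.includeLeft : A →ₐ[R] A ⊗[R] A))⁻¹ *
            toConv (Algebra.TensorProduct.includeRight : A →ₐ[R] A ⊗[R] A)).ofConv :=
        AlgHom.ext fun a => by simp [γ']
      have h' : γ.comp (Algebra.TensorProduct.includeRight : A →ₐ[R] A ⊗[R] A) = Bialgebra.comulAlgHom R A :=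
        AlgHom.ext fun a => by simp [γ]
      change toConv (γ'.comp (γ.comp Algebra.TensorProduct.includeRight)) = toConv Algebra.TensorProduct.includeRight
      rw [h', show Bialgebra.comulAlgHom R A = (toConv (Bialgebra.comulAlgHom R A)).ofConv from rfl, hcom,
        DynMeth.comp_mul, ofConv_toConv, ofConv_toConv, hl, hr, toConv_ofConv, mul_inv_cancel_left]
    have hqγ : q = (Algebra.TensorProduct.map (AlgHom.id R A) (Ideal.Quotient.mkₐ R (Ideal.span ({1 - e} : Set A)))).comp γ :=
      Algebra.TensorProduct.ext (AlgHom.ext fun a => by simp [q, γ]) (AlgHom.ext fun a => by simp [q, γ, trans, ← Algebra.TensorProduct.one_def])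
    let E : A ⊗[R] A := γ' ((1 : A) ⊗ₜ (1 - e))
    have hEE : E * E = E := by
      rw [← map_mul, Algebra.TensorProduct.tmul_mul_tmul, one_mul, he.one_sub.eq]
    have hEJ : E ∈ J := by
      rw [hJ, RingHom.mem_ker, hqγ, AlgHom.comp_apply, show γ E = (1 : A) ⊗ₜ (1 - e) from DFunLike.congr_fun hgg' _,
        Algebra.TensorProduct.map_tmul, map_sub, map_one, map_one, mk_e, sub_self, TensorProduct.tmul_zero]
    have hker : x ∈ Ideal.span {E} := by
      have h1 : γ x ∈ RingHom.ker (Algebra.TensorProduct.map (AlgHom.id R A) (Ideal.Quotient.mkₐ R (Ideal.span ({1 - e} : Set A)))) := by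
        rw [hJ, RingHom.mem_ker, hqγ] at hx
        exact hx
      rw [Algebra.TensorProduct.lTensor_ker _ Ideal.Quotient.mk_surjective, ← RingHom.ker_coe_toRingHom,
        Ideal.Quotient.mkₐ_ker, Ideal.map_span, Set.image_singleton] at h1
      have h2 := Ideal.mem_map_of_mem γ' h1
      rw [Ideal.map_span, Set.image_singleton, show γ' (γ x) = x from DFunLike.congr_fun hgg x] at h2
      exact h2
    obtain ⟨c, rfl⟩ := Ideal.mem_span_singleton'.1 hker
    rw [← hEE, ← mul_assoc]
    exact Ideal.mul_mem_mul (J.mul_mem_left c hEJ) hEJ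
  -- so the diagonal ideal is idempotent
  have hK : K ≤ K * K := by
    intro x hx
    let T : A ⊗[R] A →ₗ[R] Inv R (Ideal.span ({1 - e} : Set A)) ⊗[R] Inv R (Ideal.span ({1 - e} : Set A)) :=
      TensorProduct.map (r.restrictScalars R) (r.restrictScalars R)
    have hT : ∀ (c : A ⊗[R] A) (y : Inv R (Ideal.span ({1 - e} : Set A)) ⊗[R] Inv R (Ideal.span ({1 - e} : Set A))), T (c * i2 y) = T c * y := by
      intro c y
      induction c using TensorProduct.induction_on with
      | zero => simp
      | add c c' hc hc' => rw [add_mul, map_add, map_add, hc, hc', add_mul]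
      | tmul a a' =>
        induction y using TensorProduct.induction_on with
        | zero => simp
        | add y y' hy hy' => simp only [map_add, mul_add, hy, hy']
        | tmul s s' =>
          have e1 : ∀ (a : A) (s : Inv R (Ideal.span ({1 - e} : Set A))), r (a * (s : A)) = r a * s := fun a s => by
            rw [mul_comm a, show (s : A) * a = s • a from rfl, map_smul, smul_eq_mul, mul_comm]
          simp [T, i2, i, Algebra.TensorProduct.tmul_mul_tmul, e1]
    have h1 : i2 x ∈ (K * K).map i2 := by
      rw [Ideal.map_mul]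
      exact hJJ (Ideal.mem_map_of_mem i2 hx)
    have h2 : ∀ z ∈ (K * K).map i2, ∀ c, T (c * z) ∈ K * K := by
      intro z hz
      induction hz using Submodule.span_induction with
      | mem z hz =>
        obtain ⟨y, hy, rfl⟩ := hz
        intro c
        rw [hT]
        exact Ideal.mul_mem_left _ _ hy
      | zero => intro c; rw [mul_zero, map_zero]; exact zero_mem _
      | add z z' _ _ hz hz' => intro c; rw [mul_add, map_add]; exact add_mem (hz c) (hz' c)
      | smul a z _ hz => intro c; rw [smul_eq_mul, ← mul_assoc]; exact hz _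
    have h3 := h2 _ h1 1
    rwa [hT, show T 1 = 1 by simp [T, Algebra.TensorProduct.one_def,
      show r (1 : A) = 1 from hr 1], one_mul] at h3
  haveI : Algebra.FormallyUnramified R (Inv R (Ideal.span ({1 - e} : Set A))) :=
    ⟨(Ideal.cotangent_subsingleton_iff _).2 (le_antisymm Ideal.mul_le_right hK)⟩
  exact Algebra.Etale.of_formallyUnramified_of_flat

include hε in
theorem augIdealSpan_eq [Module.Projective R (A ⧸ (Ideal.span ({1 - e} : Set A)))] : SGA3.augIdealSpan R A (Inv R (Ideal.span ({1 - e} : Set A))) = (Ideal.span ({1 - e} : Set A)) := by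
  haveI : Module.Finite R (A ⧸ (Ideal.span ({1 - e} : Set A))) :=
    Module.Finite.of_surjective (Ideal.Quotient.mkₐ R (Ideal.span ({1 - e} : Set A))).toLinearMap Ideal.Quotient.mk_surjective
  refine le_antisymm (Ideal.span_le.2 ?_) fun a ha => ?_
  · rintro b ⟨hb, hb0⟩
    let π : WithConv (A →ₐ[R] A ⧸ (Ideal.span ({1 - e} : Set A))) := toConv (Ideal.Quotient.mkₐ R (Ideal.span ({1 - e} : Set A)))
    have h := inv_apply hb (1 : WithConv (A →ₐ[R] A ⧸ (Ideal.span ({1 - e} : Set A)))) π mk_e
    rw [_root_.one_mul, DynMeth.one_apply, hb0, map_zero] at h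
    exact Ideal.Quotient.eq_zero_iff_mem.1 h
  · let J := SGA3.augIdealSpan R A (Inv R (Ideal.span ({1 - e} : Set A)))
    have hJ : ∀ b : Inv R (Ideal.span ({1 - e} : Set A)), Ideal.Quotient.mkₐ R J (b : A) = algebraMap R (A ⧸ J) (Coalgebra.counit (R := R) (b : A)) := by
      intro b
      rw [← (Ideal.Quotient.mkₐ R J).commutes, Ideal.Quotient.mkₐ_eq_mk, Ideal.Quotient.eq]
      exact Ideal.subset_span ⟨(Inv R (Ideal.span ({1 - e} : Set A))).sub_mem b.2 ((Inv R (Ideal.span ({1 - e} : Set A))).algebraMap_mem _), by simp⟩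
    let o : A →+* A ⧸ J := (algebraMap R (A ⧸ J)).comp (Bialgebra.counitAlgHom R A).toRingHom
    let x : A →+* A ⧸ J := Ideal.Quotient.mk J
    have hox : ∀ b : Inv R (Ideal.span ({1 - e} : Set A)), x (b : A) = o (b : A) := fun b => hJ b
    let ψ₀ : A ⊗[Inv R (Ideal.span ({1 - e} : Set A))] A →+ A ⧸ J := TensorProduct.liftAddHom
      { toFun := fun u => { toFun := fun v => o u * x v, map_zero' := by simp, map_add' := fun v w => by simp [mul_add] }
        map_zero' := AddMonoidHom.ext fun v => by simp
        map_add' := fun u u' => AddMonoidHom.ext fun v => by simp [add_mul] }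
      (fun s u v => by
        change o ((s : A) * u) * x v = o u * x ((s : A) * v)
        rw [map_mul, map_mul, hox]; ring)
    have hψ : ∀ u v, ψ₀ (u ⊗ₜ v) = o u * x v := fun _ _ => rfl
    let ψ : A ⊗[Inv R (Ideal.span ({1 - e} : Set A))] A →+* A ⧸ J :=
      { ψ₀ with
        map_one' := by
          change ψ₀ 1 = 1
          rw [Algebra.TensorProduct.one_def, hψ, map_one, map_one, one_mul]
        map_mul' := fun v w => by
          change ψ₀ (v * w) = ψ₀ v * ψ₀ w
          induction v using TensorProduct.induction_on with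
          | zero => simp
          | add v v' hv hv' => rw [add_mul, map_add, map_add, hv, hv', add_mul]
          | tmul p p' =>
            induction w using TensorProduct.induction_on with
            | zero => simp
            | add w w' hw hw' => rw [mul_add, map_add, map_add, hw, hw', mul_add]
            | tmul q q' =>
              rw [Algebra.TensorProduct.tmul_mul_tmul, hψ, hψ, hψ, map_mul, map_mul]
              ring }
    have hψ' : ∀ u v, ψ (u ⊗ₜ v) = o u * x v := fun _ _ => rfl
    obtain ⟨-, Φ, hΦ⟩ := torsor R (Ideal.span ({1 - e} : Set A))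
    have hmul : ∀ v w, Φ (v * w) = Φ v * Φ w := fun v w => by
      induction v using TensorProduct.induction_on with
      | zero => simp
      | add v v' hv hv' => rw [add_mul, map_add, map_add, hv, hv', add_mul]
      | tmul p p' =>
        induction w using TensorProduct.induction_on with
        | zero => simp
        | add w w' hw hw' => rw [mul_add, map_add, map_add, hw, hw', mul_add]
        | tmul q q' =>
          rw [Algebra.TensorProduct.tmul_mul_tmul, hΦ, hΦ, hΦ, map_mul,
            show ((p * q) ⊗ₜ[R] (1 : A ⧸ (Ideal.span ({1 - e} : Set A)))) = (p ⊗ₜ 1) * (q ⊗ₜ 1) by simp]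
          ring
    let η : A ⊗[R] (A ⧸ (Ideal.span ({1 - e} : Set A))) →ₐ[R] A ⧸ J :=
      { toFun := fun z => ψ (Φ.symm z)
        map_one' := by
          rw [show Φ.symm 1 = 1 from Φ.symm_apply_eq.2 (by
            rw [show (1 : A ⊗[Inv R (Ideal.span ({1 - e} : Set A))] A) = (1 : A) ⊗ₜ (1 : A) from rfl, hΦ, map_one, _root_.mul_one]; rfl), map_one]
        map_mul' := fun z w => by
          rw [← map_mul]; congr 1
          exact Φ.symm_apply_eq.2 (by rw [hmul, Φ.apply_symm_apply, Φ.apply_symm_apply])
        map_zero' := by simp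
        map_add' := fun z w => by simp
        commutes' := fun r => by
          rw [show Φ.symm (algebraMap R (A ⊗[R] (A ⧸ (Ideal.span ({1 - e} : Set A)))) r) = algebraMap R A r ⊗ₜ 1 from
            Φ.symm_apply_eq.2 (by rw [hΦ, map_one, _root_.mul_one]; rfl)]
          simp [hψ', o, x] }
    have hη : ∀ a', η (trans R (Ideal.span ({1 - e} : Set A)) a') = Ideal.Quotient.mkₐ R J a' := fun a' => by
      change ψ (Φ.symm _) = _
      rw [show Φ.symm (trans R (Ideal.span ({1 - e} : Set A)) a') = (1 : A) ⊗ₜ a' from Φ.symm_apply_eq.2 (by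
        rw [hΦ]; exact (one_mul _).symm)]
      simp [hψ', o, x]
    have hl : toConv (η.comp Algebra.TensorProduct.includeLeft) = (1 : WithConv (A →ₐ[R] A ⧸ J)) := by
      refine WithConv.ofConv_injective (AlgHom.ext fun c => ?_)
      change ψ (Φ.symm (c ⊗ₜ 1)) = _
      rw [show Φ.symm (c ⊗ₜ (1 : A ⧸ (Ideal.span ({1 - e} : Set A)))) = c ⊗ₜ (1 : A) from Φ.symm_apply_eq.2 (by
        rw [hΦ, map_one, _root_.mul_one]), DynMeth.one_apply]
      simp [hψ', o, x]
    have h : toConv (η.comp (trans R (Ideal.span ({1 - e} : Set A)))) =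
        toConv ((η.comp Algebra.TensorProduct.includeRight).comp (Ideal.Quotient.mkₐ R (Ideal.span ({1 - e} : Set A)))) := by
      rw [show trans R (Ideal.span ({1 - e} : Set A)) = (toConv (trans R (Ideal.span ({1 - e} : Set A)))).ofConv from rfl, trans_eq, DynMeth.comp_mul]
      simp only [ofConv_toConv]
      rw [hl, _root_.one_mul, AlgHom.comp_assoc]
    have h' := DFunLike.congr_fun (congrArg ofConv h) a
    simp only [ofConv_toConv, AlgHom.comp_apply, hη, Ideal.Quotient.mkₐ_eq_mk,
      Ideal.Quotient.eq_zero_iff_mem.2 ha, map_zero] at h'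
    exact Ideal.Quotient.eq_zero_iff_mem.1 h'

theorem faithfullyFlat_inv [Module.Projective R (A ⧸ (Ideal.span ({1 - e} : Set A)))] : Module.FaithfullyFlat (Inv R (Ideal.span ({1 - e} : Set A))) A := by
  haveI : Module.Finite R (A ⧸ (Ideal.span ({1 - e} : Set A))) :=
    Module.Finite.of_surjective (Ideal.Quotient.mkₐ R (Ideal.span ({1 - e} : Set A))).toLinearMap Ideal.Quotient.mk_surjective
  haveI := finite_inv R (Ideal.span ({1 - e} : Set A))
  haveI := projective_inv R (Ideal.span ({1 - e} : Set A))
  haveI : Algebra.IsIntegral (Inv R (Ideal.span ({1 - e} : Set A))) A := Algebra.IsIntegral.of_finite (Inv R (Ideal.span ({1 - e} : Set A))) A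
  refine Module.FaithfullyFlat.of_comap_surjective fun p => ?_
  obtain ⟨P, -, hP, hPp⟩ := Ideal.exists_ideal_over_prime_of_isIntegral (R := Inv R (Ideal.span ({1 - e} : Set A))) (S := A) p.asIdeal (⊥ : Ideal A)
    (by
      intro y hy
      rw [Ideal.mem_comap, Ideal.mem_bot] at hy
      rw [show y = 0 from Subtype.ext hy]
      exact zero_mem _)
  exact ⟨⟨P, hP⟩, PrimeSpectrum.ext hPp⟩

include hε in
/-- Homomorphisms to an etale group kill the component. -/
theorem map_mem_inv {C : Type u} [CommRing C] [HopfAlgebra R C] [Module.Finite R C] [Algebra.Etale R C]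
    (φ : C →ₐc[R] A) (c : C) : φ c ∈ Inv R (Ideal.span ({1 - e} : Set A)) := by
  let q : A ⊗[R] (A ⧸ (Ideal.span ({1 - e} : Set A))) →ₐ[R] A :=
    (Algebra.TensorProduct.rid R R A).toAlgHom.comp (Algebra.TensorProduct.map (AlgHom.id R A) (eps hε))
  let f : C →ₐ[R] A ⊗[R] (A ⧸ (Ideal.span ({1 - e} : Set A))) := (trans R (Ideal.span ({1 - e} : Set A))).comp (φ : C →ₐ[R] A)
  let g : C →ₐ[R] A ⊗[R] (A ⧸ (Ideal.span ({1 - e} : Set A))) :=
    (Algebra.TensorProduct.includeLeft (R := R) (S := R) (B := A ⧸ (Ideal.span ({1 - e} : Set A)))).comp (φ : C →ₐ[R] A)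
  have hqt : ∀ a, q (trans R (Ideal.span ({1 - e} : Set A)) a) = a := fun a => by
    have h1 : toConv (q.comp (trans R (Ideal.span ({1 - e} : Set A)))) = toConv (AlgHom.id R A) := by
      rw [show trans R (Ideal.span ({1 - e} : Set A)) = (toConv (trans R (Ideal.span ({1 - e} : Set A)))).ofConv from rfl, trans_eq, DynMeth.comp_mul]
      rw [show toConv (q.comp (toConv (Algebra.TensorProduct.includeRight.comp
          (Ideal.Quotient.mkₐ R (Ideal.span ({1 - e} : Set A))))).ofConv) = (1 : WithConv (A →ₐ[R] A)) from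
        WithConv.ofConv_injective (AlgHom.ext fun b => by
          simp [q, eps, Algebra.algebraMap_eq_smul_one]), _root_.mul_one]
      exact WithConv.ofConv_injective (AlgHom.ext fun b => by simp [q])
    exact DFunLike.congr_fun (congrArg ofConv h1) a
  let F : C ⊗[R] C →ₐ[R] A ⊗[R] (A ⧸ (Ideal.span ({1 - e} : Set A))) := Algebra.TensorProduct.lift f g (fun _ _ => Commute.all _ _)
  have hel : ∀ z : C ⊗[R] C, z * Algebra.FormallyUnramified.elem R C =
      (Algebra.TensorProduct.lmul' R z ⊗ₜ[R] (1 : C)) * Algebra.FormallyUnramified.elem R C := fun z => by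
    induction z using TensorProduct.induction_on with
    | zero => simp
    | add x y hx hy => rw [add_mul, map_add, TensorProduct.add_tmul, add_mul, hx, hy]
    | tmul x y =>
      rw [show x ⊗ₜ[R] y = (x ⊗ₜ[R] (1 : C)) * ((1 : C) ⊗ₜ[R] y) by simp, mul_assoc,
        Algebra.FormallyUnramified.one_tmul_mul_elem, ← mul_assoc, Algebra.TensorProduct.tmul_mul_tmul,
        _root_.mul_one, map_mul]
      simp
  have h1 : F (Algebra.FormallyUnramified.elem R C) = 1 := by
    refine eq_one_of_point (eps hε) ?_ ?_
    · have := hel (Algebra.FormallyUnramified.elem R C)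
      rw [Algebra.FormallyUnramified.lmul_elem, ← Algebra.TensorProduct.one_def, one_mul] at this
      exact (show IsIdempotentElem (Algebra.FormallyUnramified.elem R C) from this).map F
    · have h2 : q.comp F = (φ : C →ₐ[R] A).comp (Algebra.TensorProduct.lmul' R) :=
        Algebra.TensorProduct.ext (AlgHom.ext fun b => by simp [F, f, hqt]) (AlgHom.ext fun b => by simp [F, g, q])
      change q (F _) = 1
      rw [← AlgHom.comp_apply, h2, AlgHom.comp_apply, Algebra.FormallyUnramified.lmul_elem, map_one]
  have h2 := congrArg F (Algebra.FormallyUnramified.one_tmul_mul_elem (R := R) (S := C) c)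
  rw [map_mul, map_mul, h1, _root_.mul_one, _root_.mul_one] at h2
  have h3 : g c = f c := by simpa [F] using h2
  exact h3.symm

end Inv

end GrothLib.HopfFinQuot
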