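import Groth.Agent.Lib.DynMeth.Basic
import Mathlib.RingTheory.Etale.Descent
import Mathlib.RingTheory.Flat.FaithfullyFlat.Algebra

/-!
The torsor of a homomorphism under its kernel.
-/

universe u

set_option linter.style.haveILetI false
set_option maxSynthPendingDepth 3

open TensorProduct WithConv

open scoped GrothLib.DynMeth

namespace GrothLib.HopfFinQuot

variable {R : Type u} [CommRing R] {A A'' : Type u} [CommRing A] [HopfAlgebra R A] [CommRing A''] [HopfAlgebra R A'']
  [Algebra A'' A] [IsScalarTower R A'' A]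

/-- The ideal of the kernel. -/
noncomputable abbrev kerIdeal (R A A'' : Type u) [CommRing R] [CommRing A] [CommRing A''] [HopfAlgebra R A'']
    [Algebra A'' A] : Ideal A :=
  (RingHom.ker (Bialgebra.counitAlgHom R A'')).map (algebraMap A'' A)

variable (hΔ : (Bialgebra.comulAlgHom R A).comp (IsScalarTower.toAlgHom R A'' A) =
      (Algebra.TensorProduct.map (IsScalarTower.toAlgHom R A'' A) (IsScalarTower.toAlgHom R A'' A)).comp
        (Bialgebra.comulAlgHom R A''))

theorem mk_algebraMap (b : A'') : Ideal.Quotient.mkₐ R (kerIdeal R A A'') (algebraMap A'' A b) =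
    algebraMap R _ (Coalgebra.counit (R := R) b) := by
  rw [← (Ideal.Quotient.mkₐ R _).commutes, Ideal.Quotient.mkₐ_eq_mk, Ideal.Quotient.eq,
    IsScalarTower.algebraMap_apply R A'' A, ← map_sub]
  exact Ideal.mem_map_of_mem _ (by simp [RingHom.mem_ker])

include hΔ in
theorem pull_mul {C : Type u} [CommRing C] [Algebra R C] (f g : WithConv (A →ₐ[R] C)) :
    toConv ((f * g).ofConv.comp (IsScalarTower.toAlgHom R A'' A)) =
      toConv (f.ofConv.comp (IsScalarTower.toAlgHom R A'' A)) *
        toConv (g.ofConv.comp (IsScalarTower.toAlgHom R A'' A)) := by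
  refine WithConv.ofConv_injective (AlgHom.ext fun b => ?_)
  rw [AlgHom.convMul_apply]
  simp only [ofConv_toConv, AlgHom.comp_apply]
  rw [AlgHom.convMul_apply, show Coalgebra.comul (R := R) (IsScalarTower.toAlgHom R A'' A b) =
    Algebra.TensorProduct.map (IsScalarTower.toAlgHom R A'' A) (IsScalarTower.toAlgHom R A'' A)
      (Coalgebra.comul (R := R) b) from DFunLike.congr_fun hΔ b]
  induction Coalgebra.comul (R := R) b using TensorProduct.induction_on with
  | zero => simp
  | add p q hp hq => simp only [map_add, hp, hq]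
  | tmul p q => simp

variable (R A A'') in
/-- The generic translate. -/
noncomputable def kerTrans : A →ₐ[R] A ⊗[R] (A ⧸ kerIdeal R A A'') :=
  (Algebra.TensorProduct.map (AlgHom.id R A) (Ideal.Quotient.mkₐ R _)).comp (Bialgebra.comulAlgHom R A)

theorem kerTrans_eq : toConv (kerTrans R A A'') = toConv Algebra.TensorProduct.includeLeft *
    toConv (Algebra.TensorProduct.includeRight.comp (Ideal.Quotient.mkₐ R (kerIdeal R A A''))) := by
  refine WithConv.ofConv_injective (AlgHom.ext fun a => ?_)
  rw [AlgHom.convMul_apply]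
  simp only [ofConv_toConv, kerTrans, AlgHom.comp_apply, Bialgebra.comulAlgHom_apply]
  induction Coalgebra.comul (R := R) a using TensorProduct.induction_on with
  | zero => simp
  | add p q hp hq => simp only [map_add, hp, hq]
  | tmul p q => simp

include hΔ in
theorem kerTrans_algebraMap (b : A'') :
    kerTrans R A A'' (algebraMap A'' A b) = algebraMap A'' A b ⊗ₜ[R] (1 : A ⧸ kerIdeal R A A'') := by
  let φ := IsScalarTower.toAlgHom R A'' A
  have h1 : toConv ((Algebra.TensorProduct.includeRight.comp (Ideal.Quotient.mkₐ R (kerIdeal R A A''))).comp φ) =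
      (1 : WithConv (A'' →ₐ[R] A ⊗[R] (A ⧸ kerIdeal R A A''))) := by
    refine WithConv.ofConv_injective (AlgHom.ext fun c => ?_)
    change Algebra.TensorProduct.includeRight (Ideal.Quotient.mkₐ R (kerIdeal R A A'') (algebraMap A'' A c)) = _
    rw [mk_algebraMap, AlgHom.commutes, DynMeth.one_apply]
  have h2 := pull_mul hΔ (toConv (Algebra.TensorProduct.includeLeft (R := R) (S := R) (B := A ⧸ kerIdeal R A A'')))
    (toConv (Algebra.TensorProduct.includeRight.comp (Ideal.Quotient.mkₐ R (kerIdeal R A A''))))
  simp only [ofConv_toConv] at h2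
  rw [h1, _root_.mul_one, ← kerTrans_eq] at h2
  exact DFunLike.congr_fun (congrArg ofConv h2) b

include hΔ in
/-- `A` is a torsor under the kernel. -/
theorem exists_torsor : ∃ Φ : A ⊗[A''] A ≃ₐ[A] A ⊗[R] (A ⧸ kerIdeal R A A''),
    ∀ a, Φ ((1 : A) ⊗ₜ a) = kerTrans R A A'' a := by
  let φ := IsScalarTower.toAlgHom R A'' A
  let t : A →ₐ[A''] A ⊗[R] (A ⧸ kerIdeal R A A'') :=
    { (kerTrans R A A'').toRingHom with commutes' := fun b => kerTrans_algebraMap hΔ b }
  let F : A ⊗[A''] A →ₐ[A] A ⊗[R] (A ⧸ kerIdeal R A A'') :=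
    Algebra.TensorProduct.lift (Algebra.ofId A _) t (fun _ _ => Commute.all _ _)
  let L : A →ₐ[R] A ⊗[A''] A :=
    (Algebra.TensorProduct.includeLeft (R := A'') (S := A'') (A := A) (B := A)).restrictScalars R
  let Q : A →ₐ[R] A ⊗[A''] A :=
    (Algebra.TensorProduct.includeRight (R := A'') (A := A) (B := A)).restrictScalars R
  have hLQ : L.comp φ = Q.comp φ := AlgHom.ext fun b =>
    (Algebra.TensorProduct.includeRight (R := A'') (A := A) (B := A)).commutes b |>.symm
  have hker : ∀ a ∈ kerIdeal R A A'', ((toConv L)⁻¹ * toConv Q).ofConv a = 0 := by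
    intro a ha
    have h := pull_mul hΔ (toConv L)⁻¹ (toConv Q)
    rw [ofConv_toConv, ← hLQ] at h
    have h' := pull_mul hΔ (toConv L)⁻¹ (toConv L)
    rw [inv_mul_cancel, ofConv_toConv] at h'
    rw [← h'] at h
    have hle : kerIdeal R A A'' ≤ RingHom.ker ((toConv L)⁻¹ * toConv Q).ofConv := by
      rw [kerIdeal, Ideal.map_le_iff_le_comap]
      intro c hc
      refine (DFunLike.congr_fun (congrArg ofConv h) c).trans ?_
      simp only [ofConv_toConv, AlgHom.comp_apply, DynMeth.one_apply, IsScalarTower.coe_toAlgHom']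
      rw [show Coalgebra.counit (R := R) (algebraMap A'' A c) = Coalgebra.counit (R := R) c from ?_,
        show Coalgebra.counit (R := R) c = 0 from (hc : Bialgebra.counitAlgHom R A'' c = 0), map_zero]
      have h1 := pull_mul hΔ (1 : WithConv (A →ₐ[R] R)) 1
      rw [_root_.mul_one] at h1
      have h2 := mul_left_cancel (h1.symm.trans (_root_.mul_one _).symm)
      have h3 := DFunLike.congr_fun (congrArg ofConv h2) c
      simpa [DynMeth.one_apply] using h3
    exact hle ha
  let G : A ⊗[R] (A ⧸ kerIdeal R A A'') →ₐ[A] A ⊗[A''] A :=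
    Algebra.TensorProduct.lift (Algebra.ofId A _) (Ideal.Quotient.liftₐ _ ((toConv L)⁻¹ * toConv Q).ofConv hker)
      (fun _ _ => Commute.all _ _)
  have hFG : F.comp G = AlgHom.id A _ := by
    refine Algebra.TensorProduct.ext (AlgHom.ext fun a => by simp [F, G]) (toConv_injective ?_)
    refine WithConv.ofConv_injective (AlgHom.ext fun x => ?_)
    obtain ⟨a, rfl⟩ := Ideal.Quotient.mk_surjective x
    have hL : (F.restrictScalars R).comp L = Algebra.TensorProduct.includeLeft :=
      AlgHom.ext fun c => by simp [F, L]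
    have hQ : (F.restrictScalars R).comp Q = kerTrans R A A'' := AlgHom.ext fun c => by
      simp [F, Q, t, ← Algebra.TensorProduct.one_def]
    have h : toConv ((F.restrictScalars R).comp ((toConv L)⁻¹ * toConv Q).ofConv) =
        toConv (Algebra.TensorProduct.includeRight.comp (Ideal.Quotient.mkₐ R (kerIdeal R A A''))) := by
      rw [DynMeth.comp_mul, DynMeth.comp_inv, ofConv_toConv, ofConv_toConv, hL, hQ, kerTrans_eq,
        inv_mul_cancel_left]
    have := DFunLike.congr_fun (congrArg ofConv h) a
    simpa [G, ← Algebra.TensorProduct.one_def] using this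
  have hGF : G.comp F = AlgHom.id A _ := by
    refine Algebra.TensorProduct.ext (AlgHom.ext fun a => by simp [F, G]) (AlgHom.ext fun a => ?_)
    change G (F ((1 : A) ⊗ₜ a)) = (1 : A) ⊗ₜ a
    rw [show F ((1 : A) ⊗ₜ a) = kerTrans R A A'' a by simp [F, t, ← Algebra.TensorProduct.one_def]]
    have hl : toConv ((G.restrictScalars R).comp Algebra.TensorProduct.includeLeft) = toConv L :=
      WithConv.ofConv_injective (AlgHom.ext fun c => by simp [G, L])
    have hr : toConv ((G.restrictScalars R).comp (Algebra.TensorProduct.includeRight.comp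
        (Ideal.Quotient.mkₐ R (kerIdeal R A A'')))) = (toConv L)⁻¹ * toConv Q :=
      WithConv.ofConv_injective (AlgHom.ext fun c => by simp [G, ← Algebra.TensorProduct.one_def])
    have h : toConv ((G.restrictScalars R).comp (kerTrans R A A'')) = toConv Q := by
      rw [show kerTrans R A A'' = (toConv (kerTrans R A A'')).ofConv from rfl, kerTrans_eq, DynMeth.comp_mul,
        ofConv_toConv, ofConv_toConv, hl, hr, mul_inv_cancel_left]
    exact DFunLike.congr_fun (congrArg ofConv h) a
  exact ⟨AlgEquiv.ofAlgHom F G hFG hGF, fun a => by simp [F, t, ← Algebra.TensorProduct.one_def]⟩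

include hΔ in
/-- A homomorphism with etale kernel is etale. -/
theorem etale_of_kernel [Module.FaithfullyFlat A'' A] [Algebra.Etale R (A ⧸ kerIdeal R A A'')] :
    Algebra.Etale A'' A := by
  obtain ⟨Φ, -⟩ := exists_torsor hΔ
  haveI : Algebra.Etale A (A ⊗[A''] A) := Algebra.Etale.of_equiv Φ.symm
  exact Algebra.Etale.of_etale_tensorProduct_of_faithfullyFlat A

end GrothLib.HopfFinQuot
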