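import Groth.Agent.Lib.HopfFinQuot.Connected
import Groth.Prelude.Def_CartDual2
import Mathlib.RingTheory.Bialgebra.Quotient

/-!
Invariant functions under the identity component and Cartier transposes.
-/

universe u

set_option linter.style.haveILetI false
set_option maxSynthPendingDepth 3

open TensorProduct

namespace GrothLib.HopfFinQuot

variable {R : Type u} [CommRing R] {B : Type u} [CommRing B] [HopfAlgebra R B] {e : B}

theorem mem_inv_iff_mulLeft (he : IsIdempotentElem e) [(Ideal.span ({1 - e} : Set B)).IsHopfIdeal R] (x : B) :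
    x ∈ Inv R (Ideal.span ({1 - e} : Set B)) ↔
      LinearMap.lTensor B (LinearMap.mulLeft R e) (Coalgebra.comul (R := R) x) = x ⊗ₜ[R] e := by
  let I : Ideal B := Ideal.span {1 - e}
  let s : B ⧸ I →ₗ[R] B := Submodule.liftQ (Submodule.restrictScalars R I) (LinearMap.mulLeft R e) fun z hz => by
    obtain ⟨c, rfl⟩ := Ideal.mem_span_singleton'.1 (show z ∈ I from hz)
    rw [LinearMap.mem_ker, LinearMap.mulLeft_apply]
    linear_combination (-c) * he.eq
  have hs : (Ideal.Quotient.mkₐ R I).toLinearMap ∘ₗ s = LinearMap.id := LinearMap.ext fun z => by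
    obtain ⟨a, rfl⟩ := Ideal.Quotient.mk_surjective z
    change Ideal.Quotient.mk I (e * a) = Ideal.Quotient.mk I a
    rw [Ideal.Quotient.eq, show e * a - a = (-a) * (1 - e) by ring]
    exact Ideal.mul_mem_left _ _ (Ideal.subset_span rfl)
  have hinj : Function.Injective (s.lTensor B) :=
    Function.LeftInverse.injective (g := (Ideal.Quotient.mkₐ R I).toLinearMap.lTensor B) fun z => by
      rw [← LinearMap.comp_apply, ← LinearMap.lTensor_comp, hs, LinearMap.lTensor_id, LinearMap.id_apply]
  have h1 : s.lTensor B (trans R I x) = LinearMap.lTensor B (LinearMap.mulLeft R e) (Coalgebra.comul (R := R) x) := by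
    simp only [trans, AlgHom.comp_apply, Bialgebra.comulAlgHom_apply]
    induction Coalgebra.comul (R := R) x using TensorProduct.induction_on with
    | zero => simp
    | add p q hp hq => simp only [map_add, hp, hq]
    | tmul p q => rfl
  have h2 : s.lTensor B (x ⊗ₜ[R] (1 : B ⧸ I)) = x ⊗ₜ[R] e := by
    rw [LinearMap.lTensor_tmul]
    congr 1
    exact mul_one e
  rw [← h1, ← h2]
  exact ⟨fun h => congrArg _ h, fun h => hinj h⟩

variable {C : Type u} [CommRing C] [HopfAlgebra R C]

/-- An idempotent with counit one becomes one in a local quotient by a Hopf ideal. -/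
theorem mk_eq_one [Nontrivial R] (K : Ideal C) [K.IsHopfIdeal R] [IsLocalRing (C ⧸ K)] {f : C} (hf : IsIdempotentElem f)
    (hfε : Bialgebra.counitAlgHom R C f = 1) : Ideal.Quotient.mk K f = 1 := by
  have hE := hf.map (Ideal.Quotient.mk K)
  rcases IsLocalRing.isUnit_or_isUnit_one_sub_self (Ideal.Quotient.mk K f) with h | h
  · exact (IsIdempotentElem.iff_eq_one_of_isUnit h).1 hE
  · have h0 : f ∈ K := Ideal.Quotient.eq_zero_iff_mem.1
      (by simpa using (IsIdempotentElem.iff_eq_one_of_isUnit h).1 hE.one_sub)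
    exact absurd ((Submodule.IsCoideal.counit_eq_zero (R := R) (I := K.restrictScalars R) h0).symm.trans hfε) zero_ne_one

/-- Homomorphisms respecting the components carry invariant functions to invariant functions. -/
theorem map_inv_of_le {I : Ideal B} [I.IsHopfIdeal R] {K : Ideal C} [K.IsHopfIdeal R] (β : B →ₐc[R] C)
    (hle : I ≤ K.comap (β : B →ₐ[R] C)) {x : B} (hx : x ∈ Inv R I) : β x ∈ Inv R K := by
  let βq : B ⧸ I →ₐ[R] C ⧸ K := Ideal.Quotient.liftₐ I ((Ideal.Quotient.mkₐ R K).comp (β : B →ₐ[R] C))
    fun a ha => Ideal.Quotient.eq_zero_iff_mem.2 (hle ha)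
  have h : trans R K (β x) = Algebra.TensorProduct.map (β : B →ₐ[R] C) βq (trans R I x) := by
    simp only [trans, AlgHom.comp_apply, Bialgebra.comulAlgHom_apply]
    rw [← CoalgHomClass.map_comp_comul_apply β]
    induction Coalgebra.comul (R := R) x using TensorProduct.induction_on with
    | zero => simp
    | add p q hp hq => simp only [map_add, hp, hq]
    | tmul p q => rfl
  change trans R K (β x) = _
  rw [h, show trans R I x = x ⊗ₜ 1 from hx, Algebra.TensorProduct.map_tmul, map_one]
  rfl

/-- The bialgebra map between quotients induced by a bialgebra map. -/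
noncomputable def quotBialgHom (I : Ideal B) [I.IsHopfIdeal R] (K : Ideal C) [K.IsHopfIdeal R] (β : B →ₐc[R] C)
    (hle : I ≤ K.comap (β : B →ₐ[R] C)) : B ⧸ I →ₐc[R] C ⧸ K :=
  BialgHom.ofAlgHom (Ideal.Quotient.liftₐ I ((Ideal.Quotient.mkₐ R K).comp (β : B →ₐ[R] C))
      fun a ha => Ideal.Quotient.eq_zero_iff_mem.2 (hle ha))
    (AlgHom.ext fun z => by
      obtain ⟨a, rfl⟩ := Ideal.Quotient.mk_surjective z
      exact (CoalgHomClass.counit_comp_apply (Bialgebra.Quotient.mkBialgHom (R := R) K) (β a)).trans
        ((CoalgHomClass.counit_comp_apply β a).trans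
          (CoalgHomClass.counit_comp_apply (Bialgebra.Quotient.mkBialgHom (R := R) I) a).symm))
    (AlgHom.ext fun z => by
      obtain ⟨a, rfl⟩ := Ideal.Quotient.mk_surjective z
      simp only [AlgHom.comp_apply, Bialgebra.comulAlgHom_apply]
      change Algebra.TensorProduct.map _ _ (Coalgebra.comul (R := R) (Bialgebra.Quotient.mkBialgHom (R := R) I a)) =
        Coalgebra.comul (R := R) (Bialgebra.Quotient.mkBialgHom (R := R) K (β a))
      rw [← CoalgHomClass.map_comp_comul_apply (Bialgebra.Quotient.mkBialgHom (R := R) K),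
        ← CoalgHomClass.map_comp_comul_apply β, ← CoalgHomClass.map_comp_comul_apply (Bialgebra.Quotient.mkBialgHom (R := R) I)]
      induction Coalgebra.comul (R := R) a using TensorProduct.induction_on with
      | zero => simp
      | add p q hp hq => simp only [map_add, hp, hq]
      | tmul p q => rfl)

theorem quotBialgHom_mk (I : Ideal B) [I.IsHopfIdeal R] (K : Ideal C) [K.IsHopfIdeal R] (β : B →ₐc[R] C)
    (hle : I ≤ K.comap (β : B →ₐ[R] C)) (a : B) :
    quotBialgHom I K β hle (Ideal.Quotient.mk I a) = Ideal.Quotient.mk K (β a) := rfl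

end GrothLib.HopfFinQuot
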