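import Mathlib.RingTheory.Spectrum.Prime.FreeLocus
import Mathlib.RingTheory.LocalRing.Module
import Mathlib.RingTheory.Artinian.Module
import Mathlib.RingTheory.IsTensorProduct
import Mathlib.RingTheory.TensorProduct.Free
import Mathlib.LinearAlgebra.Dimension.Constructions

/-!
Ranks are multiplicative in finite projective towers.
-/

universe u v w

set_option linter.style.haveILetI false

open TensorProduct

namespace GrothLib.HopfFinQuot

theorem free_of_rankAtStalk {B : Type v} [CommRing B] [IsArtinianRing B] {M : Type w} [AddCommGroup M] [Module B M]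
    [Module.Finite B M] [Module.Projective B M] (h : ℕ) (hr : ∀ p : PrimeSpectrum B, Module.rankAtStalk M p = h) :
    Nonempty (Module.Basis (Fin h) B M) := by
  refine Module.nonempty_basis_of_flat_of_finrank_eq B M h fun P => ?_
  letI := Ideal.Quotient.field P.1
  have h1 := Module.rankAtStalk_baseChange (R := B) (M := M) (⊥ : PrimeSpectrum (B ⧸ P.1))
  rw [hr, Module.rankAtStalk_eq_finrank_of_free] at h1
  simpa using h1

theorem rankAtStalk_tower {R : Type u} [CommRing R] {B : Type v} [CommRing B] [Algebra R B] [Module.Finite R B]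
    [Module.Projective R B] {M : Type v} [AddCommGroup M] [Module R M] [Module B M] [IsScalarTower R B M]
    [Module.Finite B M] [Module.Projective B M] (q : PrimeSpectrum R) (h : ℕ)
    (hr : ∀ p : PrimeSpectrum B, p.comap (algebraMap R B) = q → Module.rankAtStalk M p = h) :
    Module.rankAtStalk M q = h * Module.rankAtStalk B q := by
  haveI : Module.Finite R M := Module.Finite.trans B M
  haveI : Module.Flat R M := Module.Flat.trans R B M
  rw [Module.rankAtStalk_eq, Module.rankAtStalk_eq]
  let κ := q.asIdeal.ResidueField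
  letI : Algebra B (κ ⊗[R] B) := Algebra.TensorProduct.rightAlgebra
  haveI : Algebra.IsPushout R κ B (κ ⊗[R] B) := inferInstance
  let e : (κ ⊗[R] B) ⊗[B] M ≃ₗ[κ] κ ⊗[R] M := Algebra.IsPushout.cancelBaseChange R κ B (κ ⊗[R] B) M
  haveI : Module.Finite κ (κ ⊗[R] B) := Module.Finite.base_change R κ B
  haveI : IsArtinianRing (κ ⊗[R] B) := IsArtinianRing.of_finite κ (κ ⊗[R] B)
  obtain ⟨b⟩ := free_of_rankAtStalk (B := κ ⊗[R] B) (M := (κ ⊗[R] B) ⊗[B] M) h fun p => by
    rw [Module.rankAtStalk_baseChange]
    refine hr _ ?_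
    rw [← PrimeSpectrum.comap_comp_apply]
    have hc : (algebraMap B (κ ⊗[R] B)).comp (algebraMap R B) = (algebraMap κ (κ ⊗[R] B)).comp (algebraMap R κ) := by
      ext r
      exact Algebra.TensorProduct.includeRight.commutes r
    rw [hc, PrimeSpectrum.comap_comp_apply]
    refine PrimeSpectrum.ext ?_
    rw [PrimeSpectrum.comap_asIdeal, show (p.comap (algebraMap κ (κ ⊗[R] B))).asIdeal = ⊥ from
      (Ideal.eq_bot_or_top _).resolve_right (Ideal.IsPrime.ne_top inferInstance), ← RingHom.ker_eq_comap_bot,
      Ideal.ker_algebraMap_residueField]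
  change Module.finrank κ (κ ⊗[R] M) = h * Module.finrank κ (κ ⊗[R] B)
  haveI : Module.Free (κ ⊗[R] B) ((κ ⊗[R] B) ⊗[B] M) := Module.Free.of_basis b
  rcases subsingleton_or_nontrivial (κ ⊗[R] B) with hS | hS
  · haveI : Subsingleton ((κ ⊗[R] B) ⊗[B] M) := Module.subsingleton (κ ⊗[R] B) _
    haveI : Subsingleton (κ ⊗[R] M) := e.symm.injective.subsingleton
    rw [Module.finrank_zero_of_subsingleton, Module.finrank_zero_of_subsingleton, mul_zero]
  rw [← e.finrank_eq, ← Module.finrank_mul_finrank κ (κ ⊗[R] B) ((κ ⊗[R] B) ⊗[B] M),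
    Module.finrank_eq_card_basis b, Fintype.card_fin, mul_comm]

end GrothLib.HopfFinQuot
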